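import Cfsg.Agent.H946.ExcNum_m3
import Cfsg.Agent.H161.G2Elems
import Cfsg.Agent.H161.G2Emb
import Cfsg.Prelude.Def_GeometricClasses
import Mathlib
import Cfsg.Agent.FastGrp
import Cfsg.Agent.Prune
set_option linter.all false

section
prune_inst 0x7ffffdffbbffffffdfff7fffa7dccdfdffbb3fffa6dff9cbffe06bff1bff5b90cfc763bf8bebb3fe5ef7ea1c14ee7b43ffffefffe26bdc7ffffd5ff45ffbffdffdf7bd08719c9cb40fbc0ffe63f0778e7f3fffffffffffffffffffffffffffaeffbfffffffff

-- part: H244/G2S/Lin
section
prune_inst 0x440000002000000058223200004480004000000000028000a000200620089c0004004000000000a1001080900000100008040200000000000000002000000000000200003000a0018000004000000000000000000000000000000010004000000000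
set_option linter.all false
open scoped Cfsg.Agent.FastGrp

/-!
# Linear algebra over a field of order `q` with an element of order `r`, `r` primitive for `q ^ 3 - 1` (helper244)
-/

set_option autoImplicit false

namespace Cfsg.Agent.H244.G2S

open Module Matrix
open Cfsg.Agent.H436 (Prim)

section count

variable {F : Type*} [Field F] [Finite F] {V : Type*} [AddCommGroup V] [Module F V] [FiniteDimensional F V]

/-- counting -/
theorem three_dvd {r : ℕ} (hr : Prim (Nat.card F) 3 r) (g : V →ₗ[F] V) (hg : ∀ x, (g ^ r) x = x) (U : Submodule F V)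
    (hU : ∀ x ∈ U, g x ∈ U) (hfix : ∀ x ∈ U, g x = x → x = 0) : 3 ∣ finrank F U := by
  classical
  have := Fact.mk hr.prime
  have hV : Finite V := Module.finite_of_finite F
  have hUf : Fintype U := Fintype.ofFinite _
  let f : Function.End U := fun x => ⟨g x, hU x x.2⟩
  have hpow : ∀ (n : ℕ) (x : U), (((f ^ n : Function.End U) x : U) : V) = (g ^ n) x := by
    intro n
    induction n with
    | zero => intro x; rfl
    | succ n ih =>
      intro x
      rw [pow_succ, pow_succ]
      change (((f ^ n : Function.End U) (f x) : U) : V) = (g ^ n) (g x)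
      rw [ih]
  have hf : f ^ r ^ 1 = 1 := by
    funext x
    apply Subtype.ext
    rw [hpow, pow_one, hg]
    rfl
  have h1 := Equiv.Perm.card_fixedPoints_modEq (p := r) (n := 1) hf
  have h2 : Fintype.card f.fixedPoints = 1 := by
    rw [Fintype.card_eq_one_iff]
    refine ⟨⟨0, ?_⟩, ?_⟩
    · change f 0 = 0
      apply Subtype.ext
      change g 0 = 0
      rw [map_zero]
    · rintro ⟨x, hx⟩
      apply Subtype.ext
      apply Subtype.ext
      have h3 : g x = x := congrArg Subtype.val hx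
      exact hfix x x.2 h3
  rw [h2, ← Nat.card_eq_fintype_card, Module.natCard_eq_pow_finrank (K := F)] at h1
  have h3 : r ∣ Nat.card F ^ finrank F U - 1 := (Nat.modEq_iff_dvd' (Nat.one_le_pow _ _ Nat.card_pos)).1 h1.symm
  exact (hr.dvd_iff _).1 h3

theorem cast_ne {r : ℕ} (hr : Prim (Nat.card F) 3 r) : (r : F) ≠ 0 := by
  intro h0
  obtain ⟨p, hp⟩ := CharP.exists F
  have hpp : p.Prime := CharP.char_is_prime F p
  have h1 : p ∣ r := (CharP.cast_eq_zero_iff F p r).1 h0
  have h2 := (Nat.prime_dvd_prime_iff_eq hpp hr.prime).1 h1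
  subst h2
  have : Fintype F := Fintype.ofFinite F
  obtain ⟨n, -, hn⟩ := FiniteField.card F p
  apply hr.not_dvd
  rw [Nat.card_eq_fintype_card, hn]
  exact dvd_pow_self p n.ne_zero

/-- the norm map -/
def nrm (g : V →ₗ[F] V) (r : ℕ) : V →ₗ[F] V := ∑ i ∈ Finset.range r, g ^ i

omit [Finite F] [FiniteDimensional F V] in
theorem nrm_apply (g : V →ₗ[F] V) (r : ℕ) (x : V) : nrm g r x = ∑ i ∈ Finset.range r, (g ^ i) x := by
  unfold nrm
  rw [LinearMap.sum_apply]

omit [Finite F] [FiniteDimensional F V] in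
theorem nrm_fixed {g : V →ₗ[F] V} {r : ℕ} (hg : ∀ x, (g ^ r) x = x) (x : V) : g (nrm g r x) = nrm g r x := by
  have h1 : g (nrm g r x) = ∑ i ∈ Finset.range r, (g ^ (i + 1)) x := by
    rw [nrm_apply, map_sum]
    refine Finset.sum_congr rfl fun i _ => ?_
    rw [pow_succ']
    rfl
  rw [h1, nrm_apply]
  have h2 := Finset.sum_range_succ (fun i => (g ^ i) x) r
  have h3 := Finset.sum_range_succ' (fun i => (g ^ i) x) r
  rw [h2, hg] at h3
  simp only [pow_zero] at h3
  exact (add_right_cancel h3).symm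

omit [Finite F] [FiniteDimensional F V] in
theorem nrm_mem {g : V →ₗ[F] V} {r : ℕ} {U : Submodule F V} (hU : ∀ x ∈ U, g x ∈ U) {x : V} (hx : x ∈ U) :
    nrm g r x ∈ U := by
  rw [nrm_apply]
  refine U.sum_mem fun i hi => ?_
  clear hi
  induction i with
  | zero => exact hx
  | succ n ih =>
    rw [pow_succ']
    exact hU _ ih

omit [Finite F] [FiniteDimensional F V] in
theorem nrm_of_fixed {g : V →ₗ[F] V} {r : ℕ} {x : V} (hx : g x = x) : nrm g r x = (r : F) • x := by
  rw [nrm_apply]
  have h1 : ∀ i, (g ^ i) x = x := by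
    intro i
    induction i with
    | zero => rfl
    | succ n ih => rw [pow_succ, Module.End.mul_apply, hx, ih]
  rw [Finset.sum_congr rfl fun i _ => h1 i, Finset.sum_const, Finset.card_range, Nat.cast_smul_eq_nsmul]

/-- an invariant subspace of dimension 3 with a nontrivial action has no fixed vectors -/
theorem fix_zero {r : ℕ} (hr : Prim (Nat.card F) 3 r) {g : V →ₗ[F] V} (hg : ∀ x, (g ^ r) x = x) {X : Submodule F V}
    (hX : ∀ x ∈ X, g x ∈ X) (hX3 : finrank F X = 3) (hne : ∃ x ∈ X, g x ≠ x) {x : V} (hx : x ∈ X) (hgx : g x = x) :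
    x = 0 := by
  have hr0 := cast_ne hr
  let U : Submodule F V := X ⊓ LinearMap.ker (nrm g r)
  have hUfix : ∀ y ∈ U, g y = y → y = 0 := by
    intro y hy hgy
    have h1 := LinearMap.mem_ker.1 hy.2
    rw [nrm_of_fixed hgy] at h1
    exact (smul_eq_zero.1 h1).resolve_left hr0
  have hUinv : ∀ y ∈ U, g y ∈ U := by
    intro y hy
    refine ⟨hX y hy.1, LinearMap.mem_ker.2 ?_⟩
    have h1 := LinearMap.mem_ker.1 hy.2
    have h2 : nrm g r (g y) = g (nrm g r y) := by
      rw [nrm_apply, nrm_apply, map_sum]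
      refine Finset.sum_congr rfl fun i _ => ?_
      rw [← Module.End.mul_apply, ← Module.End.mul_apply, ← pow_succ, ← pow_succ']
    rw [h2, h1, map_zero]
  have h3 := three_dvd hr g hg U hUinv hUfix
  have hle : finrank F U ≤ finrank F X := Submodule.finrank_mono inf_le_left
  rcases (show finrank F U = 0 ∨ finrank F U = 3 by omega) with h | h
  · exfalso
    obtain ⟨y, hy, hgy⟩ := hne
    apply hgy
    have h0 : U = ⊥ := Submodule.finrank_eq_zero.1 h
    have hz : y - (r : F)⁻¹ • nrm g r y ∈ U := by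
      refine ⟨X.sub_mem hy (X.smul_mem _ (nrm_mem hX hy)), LinearMap.mem_ker.2 ?_⟩
      rw [map_sub, map_smul, nrm_of_fixed (nrm_fixed hg y), smul_smul, inv_mul_cancel₀ hr0, one_smul, sub_self]
    rw [h0, Submodule.mem_bot, sub_eq_zero] at hz
    rw [hz, map_smul, nrm_fixed hg]
  · have h0 : U = X := Submodule.eq_of_le_of_finrank_eq inf_le_left (by rw [h, hX3])
    exact hUfix x (by rw [h0]; exact hx) hgx

/-- invariant subspaces of an invariant subspace of dimension 3 with a nontrivial action -/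
theorem inv_cases {r : ℕ} (hr : Prim (Nat.card F) 3 r) {g : V →ₗ[F] V} (hg : ∀ x, (g ^ r) x = x) {X : Submodule F V}
    (hX3 : finrank F X = 3) (hfix : ∀ x ∈ X, g x = x → x = 0) {U : Submodule F V} (hUX : U ≤ X)
    (hU : ∀ x ∈ U, g x ∈ U) : U = ⊥ ∨ U = X := by
  have h3 := three_dvd hr g hg U hU fun x hx h => hfix x (hUX hx) h
  have hle : finrank F U ≤ finrank F X := Submodule.finrank_mono hUX
  rcases (show finrank F U = 0 ∨ finrank F U = 3 by omega) with h | h
  · exact Or.inl (Submodule.finrank_eq_zero.1 h)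
  · exact Or.inr (Submodule.eq_of_le_of_finrank_eq hUX (by rw [h, hX3]))

end count

/-! ### invariant bilinear forms in dimension 3 -/

section form

variable {F : Type*} [Field F] [Finite F] {A J : Matrix (Fin 3) (Fin 3) F}

omit [Finite F] in
/-- kernel of an alternating matrix -/
theorem exists_ker_alt {N : Matrix (Fin 3) (Fin 3) F} (h0 : ∀ i, N i i = 0) (hs : ∀ i j, N i j = - N j i) (hN : N ≠ 0) :
    ∃ v : Fin 3 → F, v ≠ 0 ∧ N *ᵥ v = 0 := by
  refine ⟨![N 1 2, - N 0 2, N 0 1], ?_, ?_⟩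
  · intro hv
    apply hN
    have e0 : N 1 2 = 0 := congrFun hv 0
    have e1 : - N 0 2 = 0 := congrFun hv 1
    have e2 : N 0 1 = 0 := congrFun hv 2
    have e1' : N 0 2 = 0 := by rw [← neg_eq_zero]; exact e1
    ext i j
    fin_cases i <;> fin_cases j
    · exact h0 0
    · exact e2
    · exact e1'
    · change N 1 0 = 0
      rw [hs, e2, neg_zero]
    · exact h0 1
    · exact e0
    · change N 2 0 = 0
      rw [hs, e1', neg_zero]
    · change N 2 1 = 0
      rw [hs, e0, neg_zero]
    · exact h0 2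
  · have e3 := hs 1 0
    have e4 := hs 2 0
    have e5 := hs 2 1
    ext i
    fin_cases i
    · simp [Matrix.mulVec, dotProduct, Fin.sum_univ_three, h0 0]
      ring
    · simp [Matrix.mulVec, dotProduct, Fin.sum_univ_three, h0 1, e3]
      ring
    · simp [Matrix.mulVec, dotProduct, Fin.sum_univ_three, h0 2, e4, e5]
      ring

variable (hdet : A.det = 1) (hfix : ∀ v, A *ᵥ v = v → v = 0)
  (hirr : ∀ U : Submodule F (Fin 3 → F), (∀ v ∈ U, A *ᵥ v ∈ U) → U = ⊥ ∨ U = ⊤)
include hdet hfix hirr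

omit [Finite F] hdet hfix in
theorem eq_zero_of_ker {N : Matrix (Fin 3) (Fin 3) F} (hN : Aᵀ * N * A = N) (hA : IsUnit A)
    (hv : ∃ v : Fin 3 → F, v ≠ 0 ∧ N *ᵥ v = 0) : N = 0 := by
  have hinv : ∀ v ∈ LinearMap.ker (Matrix.mulVecLin N), A *ᵥ v ∈ LinearMap.ker (Matrix.mulVecLin N) := by
    intro v hv
    rw [LinearMap.mem_ker, Matrix.mulVecLin_apply] at hv ⊢
    have h1 : Aᵀ *ᵥ (N *ᵥ (A *ᵥ v)) = 0 := by
      rw [Matrix.mulVec_mulVec, Matrix.mulVec_mulVec, hN, hv]
    have h2 : IsUnit Aᵀ := (Matrix.isUnit_transpose (A := A)).2 hA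
    exact (Matrix.mulVec_injective_of_isUnit h2) (by rw [h1, Matrix.mulVec_zero])
  rcases hirr _ hinv with h | h
  · obtain ⟨v, hv0, hv⟩ := hv
    have h1 : v ∈ LinearMap.ker (Matrix.mulVecLin N) := by rw [LinearMap.mem_ker, Matrix.mulVecLin_apply, hv]
    rw [h, Submodule.mem_bot] at h1
    exact absurd h1 hv0
  · ext i j
    have h1 : Pi.single j 1 ∈ LinearMap.ker (Matrix.mulVecLin N) := by rw [h]; trivial
    rw [LinearMap.mem_ker, Matrix.mulVecLin_apply] at h1
    have h2 := congrFun h1 i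
    simpa [Matrix.mulVec, dotProduct, Pi.single_apply] using h2

/-- **There is no invariant bilinear form.** -/
theorem no_form (hJ : Aᵀ * J * A = J) : J = 0 := by
  have hA : IsUnit A := by
    rw [Matrix.isUnit_iff_isUnit_det, hdet]
    exact isUnit_one
  have key := fun {N : Matrix (Fin 3) (Fin 3) F} (hN : Aᵀ * N * A = N) hv => eq_zero_of_ker hirr hN hA hv
  by_cases h2 : (2 : F) = 0
  · have h22 : ∀ x : F, x + x = 0 := fun x => by rw [← two_mul, h2, zero_mul]
    have hneg : ∀ x : F, -x = x := fun x => by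
      have := h22 x
      exact neg_eq_of_add_eq_zero_left this
    -- the alternating part
    have hN : J + Jᵀ = 0 := by
      by_contra hne
      apply hne
      apply key
      · have h3 := congrArg Matrix.transpose hJ
        rw [Matrix.transpose_mul, Matrix.transpose_mul, Matrix.transpose_transpose, ← Matrix.mul_assoc] at h3
        rw [Matrix.mul_add, Matrix.add_mul, hJ, h3]
      · apply exists_ker_alt _ _ hne
        · intro i
          rw [Matrix.add_apply, Matrix.transpose_apply]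
          exact h22 _
        · intro i j
          rw [Matrix.add_apply, Matrix.add_apply, Matrix.transpose_apply, Matrix.transpose_apply, hneg, add_comm]
    have hsym : ∀ i j, J i j = J j i := by
      intro i j
      have h3 := congrFun (congrFun hN i) j
      rw [Matrix.add_apply, Matrix.transpose_apply, Matrix.zero_apply] at h3
      rw [← hneg (J j i)]
      exact eq_neg_of_add_eq_zero_left h3
    -- the quadratic form
    have hQ : ∀ v : Fin 3 → F, v ⬝ᵥ (J *ᵥ v) = J 0 0 * v 0 ^ 2 + J 1 1 * v 1 ^ 2 + J 2 2 * v 2 ^ 2 := by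
      intro v
      simp only [Matrix.mulVec, dotProduct, Fin.sum_univ_three]
      rw [hsym 1 0, hsym 2 0, hsym 2 1]
      linear_combination (v 0 * v 1 * J 0 1 + v 0 * v 2 * J 0 2 + v 1 * v 2 * J 1 2) * h2
    have hch : CharP F 2 := CharTwo.of_one_ne_zero_of_two_eq_zero one_ne_zero h2
    let Z : Submodule F (Fin 3 → F) :=
      { carrier := {v | v ⬝ᵥ (J *ᵥ v) = 0}
        zero_mem' := by simp
        add_mem' := by
          intro v w hv hw
          simp only [Set.mem_ofPred_eq, hQ] at hv hw ⊢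
          simp only [Pi.add_apply]
          linear_combination hv + hw + (J 0 0 * v 0 * w 0 + J 1 1 * v 1 * w 1 + J 2 2 * v 2 * w 2) * h2
        smul_mem' := by
          intro c v hv
          simp only [Set.mem_ofPred_eq, hQ] at hv ⊢
          simp only [Pi.smul_apply, smul_eq_mul]
          linear_combination c ^ 2 * hv }
    have hZ : ∀ v ∈ Z, A *ᵥ v ∈ Z := by
      intro v hv
      change (A *ᵥ v) ⬝ᵥ (J *ᵥ (A *ᵥ v)) = 0
      have h3 : v ⬝ᵥ (J *ᵥ v) = 0 := hv
      rw [← hJ] at h3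
      rw [← h3]
      rw [← Matrix.mulVec_mulVec, ← Matrix.mulVec_mulVec, Matrix.dotProduct_mulVec v, Matrix.vecMul_transpose]
    have hdiag : ∀ i, J i i = 0 := by
      rcases hirr Z hZ with h | h
      · exfalso
        have hex : ∃ v ∈ Z, v ≠ 0 := by
          by_cases h00 : J 0 0 = 0
          · refine ⟨![1, 0, 0], ?_, fun h4 => one_ne_zero (congrFun h4 0)⟩
            change _ = _
            rw [hQ]
            simp [h00]
          · obtain ⟨c, hc⟩ := FiniteField.isSquare_of_char_two (ringChar.eq F 2) (J 1 1 * (J 0 0)⁻¹)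
            refine ⟨![c, 1, 0], ?_, fun h4 => one_ne_zero (congrFun h4 1)⟩
            change _ = _
            rw [hQ]
            have h5 : J 0 0 * c ^ 2 = J 1 1 := by
              rw [pow_two, ← hc, mul_comm (J 1 1), mul_inv_cancel_left₀ h00]
            simp [h5, h22]
        obtain ⟨v, hv, hv0⟩ := hex
        rw [h, Submodule.mem_bot] at hv
        exact hv0 hv
      · intro i
        have h3 : (Pi.single i 1 : Fin 3 → F) ∈ Z := by rw [h]; trivial
        have h4 : (Pi.single i 1 : Fin 3 → F) ⬝ᵥ (J *ᵥ Pi.single i 1) = 0 := h3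
        simpa using h4
    by_contra hne
    exact hne (key hJ (exists_ker_alt hdiag (fun i j => by rw [hneg]; exact hsym i j) hne))
  · by_contra hne
    have hJdet : J.det ≠ 0 := by
      intro h0
      obtain ⟨v, hv0, hv⟩ := Matrix.exists_mulVec_eq_zero_iff.2 h0
      exact hne (key hJ ⟨v, hv0, hv⟩)
    have h1 : (A - 1)ᵀ * J = Aᵀ * J * (1 - A) := by
      rw [Matrix.transpose_sub, Matrix.transpose_one, Matrix.sub_mul, Matrix.one_mul, Matrix.mul_sub, Matrix.mul_one, hJ]
    have h3 := congrArg Matrix.det h1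
    rw [Matrix.det_mul, Matrix.det_transpose, Matrix.det_mul, Matrix.det_mul, Matrix.det_transpose, hdet, one_mul,
      ← neg_sub A 1, Matrix.det_neg, Fintype.card_fin] at h3
    have h4 : (2 : F) * ((A - 1).det * J.det) = 0 := by linear_combination h3
    have h5 : (A - 1).det ≠ 0 := by
      intro h0
      obtain ⟨v, hv0, hv⟩ := Matrix.exists_mulVec_eq_zero_iff.2 h0
      rw [Matrix.sub_mulVec, Matrix.one_mulVec, sub_eq_zero] at hv
      exact hv0 (hfix v hv)
    exact mul_ne_zero h2 (mul_ne_zero h5 hJdet) h4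

end form

end Cfsg.Agent.H244.G2S
end

-- part: H244/G2S/OctE
section
prune_inst 0x20000000502322000000c00040000000000c80000000800e00089c000410400000000100c8108090000000000000020000000000000000000000000000020040100220018000000000000000000000000000000000000000000000000000
set_option linter.all false
open scoped Cfsg.Agent.FastGrp

/-!
# The octonions and a torus element of order dividing `q² + q + 1` (helper244)
-/

set_option autoImplicit false

namespace Cfsg.Agent.H244.G2S

open Module Matrix Cfsg.Lie Cfsg.Agent.H161.Oct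
open Cfsg.Agent.H436 (Prim)

section sub

variable (F : Type*) [Field F]

/-- the two-dimensional split subalgebra -/
def EE : Submodule F (V F) where
  carrier := {x | x 1 = 0 ∧ x 2 = 0 ∧ x 3 = 0 ∧ x 4 = 0 ∧ x 5 = 0 ∧ x 6 = 0}
  zero_mem' := by simp
  add_mem' := by
    rintro x y ⟨h1, h2, h3, h4, h5, h6⟩ ⟨k1, k2, k3, k4, k5, k6⟩
    simp [h1, h2, h3, h4, h5, h6, k1, k2, k3, k4, k5, k6]
  smul_mem' := by
    rintro c x ⟨h1, h2, h3, h4, h5, h6⟩
    simp [h1, h2, h3, h4, h5, h6]

/-- the orthogonal complement -/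
def W6 : Submodule F (V F) where
  carrier := {x | x 0 = 0 ∧ x 7 = 0}
  zero_mem' := by simp
  add_mem' := by
    rintro x y ⟨h1, h2⟩ ⟨k1, k2⟩
    simp [h1, h2, k1, k2]
  smul_mem' := by
    rintro c x ⟨h1, h2⟩
    simp [h1, h2]

/-- the two isotropic subspaces -/
def WA : Submodule F (V F) := LinearMap.range (iA : (Fin 3 → F) →ₗ[F] V F)
def WB : Submodule F (V F) := LinearMap.range (iB : (Fin 3 → F) →ₗ[F] V F)

/-- the projections -/
def pA : V F →ₗ[F] (Fin 3 → F) where
  toFun x := ![x 1, x 2, x 3]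
  map_add' x y := by ext i; fin_cases i <;> rfl
  map_smul' c x := by ext i; fin_cases i <;> rfl

def pB : V F →ₗ[F] (Fin 3 → F) where
  toFun x := ![x 4, x 5, x 6]
  map_add' x y := by ext i; fin_cases i <;> rfl
  map_smul' c x := by ext i; fin_cases i <;> rfl

def pE : V F →ₗ[F] V F where
  toFun x := ![x 0, 0, 0, 0, 0, 0, 0, x 7]
  map_add' x y := by apply ext8 <;> simp
  map_smul' c x := by apply ext8 <;> simp

end sub

variable {F : Type*} [Field F]

theorem mem_EE {x : V F} : x ∈ EE F ↔ x 1 = 0 ∧ x 2 = 0 ∧ x 3 = 0 ∧ x 4 = 0 ∧ x 5 = 0 ∧ x 6 = 0 := Iff.rfl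
theorem mem_W6 {x : V F} : x ∈ W6 F ↔ x 0 = 0 ∧ x 7 = 0 := Iff.rfl
theorem pE_apply (x : V F) : pE F x = ![x 0, 0, 0, 0, 0, 0, 0, x 7] := rfl
theorem pA_apply (x : V F) : pA F x = ![x 1, x 2, x 3] := rfl
theorem pB_apply (x : V F) : pB F x = ![x 4, x 5, x 6] := rfl

theorem decomp (x : V F) : x = pE F x + iA (pA F x) + iB (pB F x) := by
  rw [pE_apply, iA_apply, iB_apply]
  apply ext8 <;> simp [pA_apply, pB_apply]

theorem pE_mem (x : V F) : pE F x ∈ EE F := by
  rw [mem_EE, pE_apply]
  simp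

theorem pE_of_mem {x : V F} (hx : x ∈ EE F) : pE F x = x := by
  obtain ⟨h1, h2, h3, h4, h5, h6⟩ := hx
  rw [pE_apply]
  apply ext8 <;> simp [h1, h2, h3, h4, h5, h6]

theorem pE_iA (v : Fin 3 → F) : pE F (iA v) = 0 := by
  rw [pE_apply, iA_apply]
  apply ext8 <;> simp

theorem pE_iB (v : Fin 3 → F) : pE F (iB v) = 0 := by
  rw [pE_apply, iB_apply]
  apply ext8 <;> simp

theorem pA_iA (v : Fin 3 → F) : pA F (iA v) = v := by
  rw [pA_apply, iA_apply]
  ext i; fin_cases i <;> rfl

theorem pA_iB (v : Fin 3 → F) : pA F (iB v) = 0 := by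
  rw [pA_apply, iB_apply]
  ext i; fin_cases i <;> rfl

theorem pB_iA (v : Fin 3 → F) : pB F (iA v) = 0 := by
  rw [pB_apply, iA_apply]
  ext i; fin_cases i <;> rfl

theorem pB_iB (v : Fin 3 → F) : pB F (iB v) = v := by
  rw [pB_apply, iB_apply]
  ext i; fin_cases i <;> rfl

theorem iB_inj : Function.Injective (iB : (Fin 3 → F) →ₗ[F] V F) := by
  intro v w h
  rw [← pB_iB v, h, pB_iB]

theorem pE_eq_zero {x : V F} : pE F x = 0 ↔ x ∈ W6 F := by
  rw [mem_W6, pE_apply]
  constructor
  · intro h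
    exact ⟨congrFun h 0, congrFun h 7⟩
  · rintro ⟨h1, h2⟩
    apply ext8 <;> simp [h1, h2]

theorem iA_mem_W6 (v : Fin 3 → F) : iA v ∈ W6 F := pE_eq_zero.1 (pE_iA v)
theorem iB_mem_W6 (v : Fin 3 → F) : iB v ∈ W6 F := pE_eq_zero.1 (pE_iB v)

theorem eq_of_W6 {x : V F} (hx : x ∈ W6 F) : x = iA (pA F x) + iB (pB F x) := by
  have h1 := decomp x
  rw [pE_eq_zero.2 hx, zero_add] at h1
  exact h1

theorem WA_le : WA F ≤ W6 F := by
  rintro _ ⟨v, rfl⟩
  exact iA_mem_W6 v

theorem WB_le : WB F ≤ W6 F := by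
  rintro _ ⟨v, rfl⟩
  exact iB_mem_W6 v

theorem finrank_WA : finrank F (WA F) = 3 := by
  unfold WA
  rw [LinearMap.finrank_range_of_inj iA_inj]
  simp

theorem finrank_WB : finrank F (WB F) = 3 := by
  unfold WB
  rw [LinearMap.finrank_range_of_inj iB_inj]
  simp

theorem W6_eq : W6 F = WA F ⊔ WB F := by
  apply le_antisymm
  · intro x hx
    rw [eq_of_W6 hx]
    exact Submodule.add_mem_sup ⟨_, rfl⟩ ⟨_, rfl⟩
  · exact sup_le WA_le WB_le

theorem WA_inf_WB : WA F ⊓ WB F = ⊥ := by
  rw [eq_bot_iff]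
  rintro x ⟨⟨v, rfl⟩, ⟨w, hw⟩⟩
  rw [Submodule.mem_bot]
  have h1 := congrArg (pA F) hw
  rw [pA_iB, pA_iA] at h1
  rw [← h1, map_zero]

theorem finrank_W6 : finrank F (W6 F) = 6 := by
  have h1 := Submodule.finrank_sup_add_finrank_inf_eq (WA F) (WB F)
  rw [← W6_eq, WA_inf_WB, finrank_bot, finrank_WA, finrank_WB] at h1
  omega

theorem EE_inf_W6 {x : V F} (h1 : x ∈ EE F) (h2 : x ∈ W6 F) : x = 0 := by
  rw [← pE_of_mem h1, pE_eq_zero.2 h2]

/-! ### the action of `SL₃` -/

section sl

variable (A : Matrix.SpecialLinearGroup (Fin 3) F)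

/-- the matrix of the action on the second isotropic space -/
def cofM (A : Matrix.SpecialLinearGroup (Fin 3) F) : Matrix (Fin 3) (Fin 3) F := (A.1.adjugate)ᵀ

theorem cofM_mul : A.1ᵀ * cofM A = 1 := by
  unfold cofM
  rw [← Matrix.transpose_mul, Matrix.adjugate_mul, A.2, one_smul, Matrix.transpose_one]

theorem slM_iA (v : Fin 3 → F) : slM F A (iA v) = iA (A.1 *ᵥ v) := by
  rw [slM_apply, iA_apply, iA_apply]
  apply ext8 <;> simp only [slF0, slF1, slF2, slF3, slF4, slF5, slF6, slF7, Matrix.mulVec, dotProduct, Fin.sum_univ_three, _root_.Nat.succ_eq_add_one, _root_.Nat.reduceAdd, _root_.Fin.isValue, _root_.Matrix.cons_val_zero, _root_.Matrix.cons_val_one, _root_.Matrix.cons_val, _root_.MulZeroClass.mul_zero, _root_.add_zero]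

theorem slM_iB (v : Fin 3 → F) : slM F A (iB v) = iB (cofM A *ᵥ v) := by
  rw [slM_apply, iB_apply, iB_apply]
  unfold cofM
  rw [Matrix.adjugate_fin_three]
  apply ext8 <;> simp [slF0, slF1, slF2, slF3, slF4, slF5, slF6, slF7, Matrix.mulVec, dotProduct, Fin.sum_univ_three,
    Matrix.transpose_apply, -mul_eq_mul_right_iff] <;> ring

theorem slM_EE {x : V F} (hx : x ∈ EE F) : slM F A x = x := by
  obtain ⟨h1, h2, h3, h4, h5, h6⟩ := hx
  rw [slM_apply]
  apply ext8 <;> simp only [slF0, slF1, slF2, slF3, slF4, slF5, slF6, slF7, h1, h2, h3, h4, h5, h6, _root_.Fin.isValue, _root_.MulZeroClass.mul_zero, _root_.add_zero]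

theorem slM_decomp (x : V F) : slM F A x = pE F x + iA (A.1 *ᵥ pA F x) + iB (cofM A *ᵥ pB F x) := by
  conv_lhs => rw [decomp x]
  rw [map_add, map_add, slM_EE A (pE_mem x), slM_iA, slM_iB]

theorem pE_slM (x : V F) : pE F (slM F A x) = pE F x := by
  rw [slM_decomp, map_add, map_add, pE_iA, pE_iB, pE_of_mem (pE_mem x), add_zero, add_zero]

theorem pA_EE {x : V F} (hx : x ∈ EE F) : pA F x = 0 := by
  obtain ⟨h1, h2, h3, h4, h5, h6⟩ := hx
  rw [pA_apply]
  ext i; fin_cases i <;> simp [h1, h2, h3]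

theorem pB_EE {x : V F} (hx : x ∈ EE F) : pB F x = 0 := by
  obtain ⟨h1, h2, h3, h4, h5, h6⟩ := hx
  rw [pB_apply]
  ext i; fin_cases i <;> simp [h4, h5, h6]

theorem pA_slM (x : V F) : pA F (slM F A x) = A.1 *ᵥ pA F x := by
  rw [slM_decomp, map_add, map_add, pA_iA, pA_iB, pA_EE (pE_mem x), add_zero, zero_add]

theorem pB_slM (x : V F) : pB F (slM F A x) = cofM A *ᵥ pB F x := by
  rw [slM_decomp, map_add, map_add, pB_iA, pB_iB, pB_EE (pE_mem x), add_zero, zero_add]

end sl

/-! ### the torus element -/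

/-- `A` is an element of prime order `r`, `r` primitive for `q³ - 1` -/
structure Tor (A : Matrix.SpecialLinearGroup (Fin 3) F) (r : ℕ) : Prop where
  prim : Prim (Nat.card F) 3 r
  pow : A ^ r = 1
  ne : A ≠ 1

namespace Tor

variable [Finite F] {A : Matrix.SpecialLinearGroup (Fin 3) F} {r : ℕ} (h : Tor A r)
include h

theorem fixA (v : Fin 3 → F) (hv : A.1 *ᵥ v = v) : v = 0 := by
  have hpow : ∀ x : Fin 3 → F, ((Matrix.toLin' A.1) ^ r) x = x := by
    intro x
    rw [← Matrix.toLin'_pow, ← Matrix.SpecialLinearGroup.coe_pow, h.pow]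
    simp
  refine fix_zero h.prim (g := Matrix.toLin' A.1) hpow (X := ⊤) (fun _ _ => trivial) (by simp) ?_ (x := v) trivial
    (by rw [Matrix.toLin'_apply, hv])
  by_contra hcon
  push Not at hcon
  apply h.ne
  apply Subtype.ext
  ext i j
  have h1 := congrFun (hcon (Pi.single j 1) trivial) i
  rw [Matrix.toLin'_apply] at h1
  have h2 : A.1 i j = (Pi.single j 1 : Fin 3 → F) i := by simpa using h1
  rw [h2, Matrix.SpecialLinearGroup.coe_one, Matrix.one_apply, Pi.single_apply]

theorem irrA (U : Submodule F (Fin 3 → F)) (hU : ∀ v ∈ U, A.1 *ᵥ v ∈ U) : U = ⊥ ∨ U = ⊤ := by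
  have hpow : ∀ x : Fin 3 → F, ((Matrix.toLin' A.1) ^ r) x = x := by
    intro x
    rw [← Matrix.toLin'_pow, ← Matrix.SpecialLinearGroup.coe_pow, h.pow]
    simp
  exact inv_cases h.prim (g := Matrix.toLin' A.1) hpow (X := ⊤) (by simp)
    (fun x _ hx => h.fixA x (by rwa [Matrix.toLin'_apply] at hx)) le_top (fun v hv => by
      rw [Matrix.toLin'_apply]; exact hU v hv)

theorem fixB (v : Fin 3 → F) (hv : cofM A *ᵥ v = v) : v = 0 := by
  have h1 : A.1ᵀ *ᵥ v = v := by
    conv_lhs => rw [← hv]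
    rw [Matrix.mulVec_mulVec, cofM_mul, Matrix.one_mulVec]
  by_contra hv0
  have h2 : (A.1ᵀ - 1).det = 0 := Matrix.exists_mulVec_eq_zero_iff.1 ⟨v, hv0, by
    rw [Matrix.sub_mulVec, Matrix.one_mulVec, h1, sub_self]⟩
  have h3 : (A.1 - 1).det = 0 := by
    rw [← Matrix.det_transpose, Matrix.transpose_sub, Matrix.transpose_one]
    exact h2
  obtain ⟨w, hw0, hw⟩ := Matrix.exists_mulVec_eq_zero_iff.2 h3
  rw [Matrix.sub_mulVec, Matrix.one_mulVec, sub_eq_zero] at hw
  exact hw0 (h.fixA w hw)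

/-- **the fixed space** -/
theorem mem_EE {x : V F} (hx : slM F A x = x) : x ∈ EE F := by
  have h1 : pA F x = 0 := h.fixA _ (by rw [← pA_slM, hx])
  have h2 : pB F x = 0 := h.fixB _ (by rw [← pB_slM, hx])
  have h3 := decomp x
  rw [h1, h2, map_zero, map_zero, add_zero, add_zero] at h3
  rw [h3]
  exact pE_mem x

theorem slM_pow (x : V F) : (((slM F A : V F ≃ₗ[F] V F) : V F →ₗ[F] V F) ^ r) x = x := by
  have h1 : ∀ n : ℕ, (((slM F A : V F ≃ₗ[F] V F) : V F →ₗ[F] V F) ^ n) x = slM F (A ^ n) x := by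
    intro n
    rw [map_pow]
    induction n with
    | zero => rfl
    | succ n ih => rw [pow_succ', pow_succ', Module.End.mul_apply, ih]; rfl
  rw [h1, h.pow, map_one]
  rfl

section inv

variable {U : Submodule F (V F)} (hU : ∀ x ∈ U, slM F A x ∈ U)
include hU

/-- **invariant subspaces are stable under the projection** -/
theorem pE_mem' {x : V F} (hx : x ∈ U) : pE F x ∈ U := by
  have hr0 := cast_ne h.prim
  set g : V F →ₗ[F] V F := ((slM F A : V F ≃ₗ[F] V F) : V F →ₗ[F] V F) with hg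
  have h0 : ∀ y ∈ W6 F, nrm g r y = 0 := by
    intro y hy
    apply EE_inf_W6
    · exact h.mem_EE (nrm_fixed (g := g) h.slM_pow y)
    · refine nrm_mem (g := g) (U := W6 F) (fun z hz => ?_) hy
      change slM F A z ∈ W6 F
      rw [← pE_eq_zero, pE_slM, pE_eq_zero]
      exact hz
  have h1 : nrm g r x = (r : F) • pE F x := by
    have h2 : x = pE F x + (iA (pA F x) + iB (pB F x)) := by rw [← add_assoc]; exact decomp x
    conv_lhs => rw [h2]
    rw [map_add, h0 _ ((W6 F).add_mem (iA_mem_W6 _) (iB_mem_W6 _)), add_zero]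
    exact nrm_of_fixed (slM_EE A (pE_mem x))
  have h3 : (r : F) • pE F x ∈ U := by
    rw [← h1]
    exact nrm_mem (g := g) (U := U) hU hx
  have h4 := U.smul_mem (r : F)⁻¹ h3
  rwa [smul_smul, inv_mul_cancel₀ hr0, one_smul] at h4

/-- **the invariant subspaces of the complement** -/
theorem cases6 (hU6 : U ≤ W6 F) : U = ⊥ ∨ U = WA F ∨ U = WB F ∨ U = W6 F := by
  have hfix : ∀ x ∈ U, slM F A x = x → x = 0 := fun x hx hfx => EE_inf_W6 (h.mem_EE hfx) (hU6 hx)
  have h3 := three_dvd h.prim ((slM F A : V F ≃ₗ[F] V F) : V F →ₗ[F] V F) h.slM_pow U hU hfix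
  have hle : finrank F U ≤ finrank F (W6 F) := Submodule.finrank_mono hU6
  rw [finrank_W6] at hle
  rcases (show finrank F U = 0 ∨ finrank F U = 6 ∨ finrank F U = 3 by omega) with h0 | h0 | h0
  · exact Or.inl (Submodule.finrank_eq_zero.1 h0)
  · exact Or.inr (Or.inr (Or.inr (Submodule.eq_of_le_of_finrank_eq hU6 (by rw [h0, finrank_W6]))))
  · have hA : U ⊓ WA F = ⊥ ∨ U ⊓ WA F = WA F := by
      refine inv_cases h.prim (g := ((slM F A : V F ≃ₗ[F] V F) : V F →ₗ[F] V F)) h.slM_pow finrank_WA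
        (fun x hx hfx => EE_inf_W6 (h.mem_EE hfx) (WA_le hx)) inf_le_right ?_
      rintro x ⟨hx, v, rfl⟩
      refine ⟨hU _ hx, A.1 *ᵥ v, ?_⟩
      exact (slM_iA A v).symm
    have hB : U ⊓ WB F = ⊥ ∨ U ⊓ WB F = WB F := by
      refine inv_cases h.prim (g := ((slM F A : V F ≃ₗ[F] V F) : V F →ₗ[F] V F)) h.slM_pow finrank_WB
        (fun x hx hfx => EE_inf_W6 (h.mem_EE hfx) (WB_le hx)) inf_le_right ?_
      rintro x ⟨hx, v, rfl⟩
      refine ⟨hU _ hx, cofM A *ᵥ v, ?_⟩
      exact (slM_iB A v).symm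
    rcases hA with hA | hA
    · rcases hB with hB | hB
      · exfalso
        -- the graph of an intertwiner
        let f : U →ₗ[F] (Fin 3 → F) := (pA F).comp U.subtype
        have hf : Function.Injective f := by
          rw [← LinearMap.ker_eq_bot, LinearMap.ker_eq_bot']
          intro x hx
          have hx' : pA F (x : V F) = 0 := hx
          have h1 : (x : V F) ∈ U ⊓ WB F := by
            refine ⟨x.2, pB F x, ?_⟩
            have h2 := eq_of_W6 (hU6 x.2)
            rw [hx', map_zero, zero_add] at h2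
            exact h2.symm
          rw [hB, Submodule.mem_bot] at h1
          exact Subtype.ext h1
        let e : U ≃ₗ[F] (Fin 3 → F) := LinearMap.linearEquivOfInjective f hf (by rw [h0]; simp)
        have he : ∀ x, e x = pA F (x : V F) := fun x => rfl
        let φ : (Fin 3 → F) →ₗ[F] (Fin 3 → F) := ((pB F).comp U.subtype).comp (e.symm : (Fin 3 → F) →ₗ[F] U)
        have hφ : ∀ a, φ (A.1 *ᵥ a) = cofM A *ᵥ φ a := by
          intro a
          have h1 : e.symm (A.1 *ᵥ a) = ⟨slM F A (e.symm a : V F), hU _ (e.symm a).2⟩ := by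
            apply e.injective
            rw [LinearEquiv.apply_symm_apply, he]
            change A.1 *ᵥ a = pA F (slM F A (e.symm a : V F))
            rw [pA_slM, ← he, LinearEquiv.apply_symm_apply]
          change pB F ((e.symm (A.1 *ᵥ a) : U) : V F) = _
          rw [h1]
          change pB F (slM F A (e.symm a : V F)) = _
          rw [pB_slM]
          rfl
        have hJ : LinearMap.toMatrix' φ = 0 := by
          apply no_form A.2 h.fixA h.irrA
          have h1 : LinearMap.toMatrix' φ * A.1 = cofM A * LinearMap.toMatrix' φ := by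
            apply Matrix.toLin'.injective
            apply LinearMap.ext
            intro a
            rw [Matrix.toLin'_mul, Matrix.toLin'_mul, LinearMap.comp_apply, LinearMap.comp_apply,
              Matrix.toLin'_toMatrix', Matrix.toLin'_apply, Matrix.toLin'_apply]
            exact hφ a
          rw [Matrix.mul_assoc, h1, ← Matrix.mul_assoc, cofM_mul, Matrix.one_mul]
        have hφ0 : φ = 0 := by
          apply LinearMap.toMatrix'.injective
          rw [hJ, map_zero]
        have hUA : U ≤ WA F := by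
          intro x hx
          have h1 : pB F x = 0 := by
            have h2 : φ (e ⟨x, hx⟩) = pB F x := by
              change pB F ((e.symm (e ⟨x, hx⟩) : U) : V F) = _
              rw [LinearEquiv.symm_apply_apply]
            rw [← h2, hφ0]
            rfl
          refine ⟨pA F x, ?_⟩
          have h2 := eq_of_W6 (hU6 hx)
          rw [h1, map_zero, add_zero] at h2
          exact h2.symm
        rw [inf_eq_left.2 hUA] at hA
        rw [hA, finrank_bot] at h0
        omega
      · right; right; left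
        exact (Submodule.eq_of_le_of_finrank_eq (inf_eq_right.1 hB) (by rw [finrank_WB, h0])).symm
    · right; left
      exact (Submodule.eq_of_le_of_finrank_eq (inf_eq_right.1 hA) (by rw [finrank_WA, h0])).symm

end inv

end Tor

end Cfsg.Agent.H244.G2S
end

-- part: H244/G2S/OctK
section
prune_inst 0x400000020000000502302000040000040200400000084006000240c002098400410400001000000c110001000001000000002800000000080000000000000000043000a000020018000080000000000000000000000000000000000000000000000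
set_option linter.all false
open scoped Cfsg.Agent.FastGrp

/-!
# Subgroups of the automorphism group of the octonions containing a torus element (helper244)
-/

set_option autoImplicit false

namespace Cfsg.Agent.H244.G2S

open Module Matrix Cfsg.Lie Cfsg.Agent.H161.Oct
open Cfsg.Agent.H436 (Prim)

variable {F : Type*} [Field F]

/-- `K` stabilises `U` -/
def Stb (K : Subgroup (V F ≃ₗ[F] V F)) (U : Submodule F (V F)) : Prop := ∀ g ∈ K, ∀ x ∈ U, g x ∈ U

theorem zorn_iA (a c : Fin 3 → F) : zornMul (iA a) (iA c) =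
    iB ![a 1 * c 2 - a 2 * c 1, a 2 * c 0 - a 0 * c 2, a 0 * c 1 - a 1 * c 0] := by
  rw [iA_apply, iA_apply, iB_apply]
  apply ext8 <;> simp [mul0, mul1, mul2, mul3, mul4, mul5, mul6, mul7]

theorem zorn_iB (a c : Fin 3 → F) : zornMul (iB a) (iB c) =
    iA ![-(a 1 * c 2 - a 2 * c 1), -(a 2 * c 0 - a 0 * c 2), -(a 0 * c 1 - a 1 * c 0)] := by
  rw [iB_apply, iB_apply, iA_apply]
  apply ext8 <;> simp [mul0, mul1, mul2, mul3, mul4, mul5, mul6, mul7]

theorem bl_iA (y : V F) (v : Fin 3 → F) : bl y (iA v) = -(y 4 * v 0 + y 5 * v 1 + y 6 * v 2) := by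
  rw [iA_apply]
  simp [bl]
  ring

theorem bl_iB (y : V F) (v : Fin 3 → F) : bl y (iB v) = -(y 1 * v 0 + y 2 * v 1 + y 3 * v 2) := by
  rw [iB_apply]
  simp [bl]

theorem bl_EE_W6 {x w : V F} (hx : x ∈ EE F) (hw : w ∈ W6 F) : bl x w = 0 := by
  obtain ⟨h1, h2, h3, h4, h5, h6⟩ := hx
  obtain ⟨k1, k2⟩ := hw
  simp [bl, h1, h2, h3, h4, h5, h6, k1, k2]

section K

variable {K : Subgroup (V F ≃ₗ[F] V F)} (hK : K ≤ AutO F)
include hK

/-- the complement -/
theorem stb_EE_of_W6 (h : Stb K (W6 F)) : Stb K (EE F) := by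
  intro g hg x hx
  have key : ∀ w ∈ W6 F, bl (g x) w = 0 := by
    intro w hw
    have h1 : g (g⁻¹ w) = w := g.apply_symm_apply w
    rw [← h1, map_bl (hK hg)]
    exact bl_EE_W6 hx (h _ (K.inv_mem hg) w hw)
  have e4 := key _ (iA_mem_W6 (Pi.single 0 1))
  have e5 := key _ (iA_mem_W6 (Pi.single 1 1))
  have e6 := key _ (iA_mem_W6 (Pi.single 2 1))
  have e1 := key _ (iB_mem_W6 (Pi.single 0 1))
  have e2 := key _ (iB_mem_W6 (Pi.single 1 1))
  have e3 := key _ (iB_mem_W6 (Pi.single 2 1))
  rw [bl_iA] at e4 e5 e6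
  rw [bl_iB] at e1 e2 e3
  exact ⟨by simpa using e1, by simpa using e2, by simpa using e3, by simpa using e4, by simpa using e5,
    by simpa using e6⟩

omit hK in
theorem stb_sup {U U' : Submodule F (V F)} (h : Stb K U) (h' : Stb K U') : Stb K (U ⊔ U') := by
  intro g hg x hx
  obtain ⟨y, hy, z, hz, rfl⟩ := Submodule.mem_sup.1 hx
  rw [map_add]
  exact Submodule.add_mem_sup (h g hg y hy) (h' g hg z hz)

/-- the other isotropic subspace -/
theorem stb_WB_of_WA (h : Stb K (WA F)) : Stb K (WB F) := by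
  rintro g hg _ ⟨v, rfl⟩
  have key : ∀ a c : Fin 3 → F, g (zornMul (iA a) (iA c)) ∈ WB F := by
    intro a c
    rw [mem_AutO.1 (hK hg)]
    obtain ⟨a', ha'⟩ := h g hg (iA a) ⟨a, rfl⟩
    obtain ⟨c', hc'⟩ := h g hg (iA c) ⟨c, rfl⟩
    rw [← ha', ← hc', zorn_iA]
    exact ⟨_, rfl⟩
  have hv : iB v = v 0 • zornMul (iA (Pi.single 1 1)) (iA (Pi.single 2 1)) +
      v 1 • zornMul (iA (Pi.single 2 1)) (iA (Pi.single 0 1)) +
      v 2 • zornMul (iA (Pi.single 0 1)) (iA (Pi.single 1 1)) := by
    rw [zorn_iA, zorn_iA, zorn_iA, iB_apply, iB_apply, iB_apply, iB_apply]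
    (refine And.elim (fun cj1 => And.elim fun cj2 => And.elim fun cj3 => And.elim fun cj4 => And.elim fun cj5 => And.elim fun cj6 => And.elim fun cj7 cj8 => by apply ext8; exacts [cj1, cj2, cj3, cj4, cj5, cj6, cj7, cj8]) ?_; simp)
  rw [hv, map_add, map_add, map_smul, map_smul, map_smul]
  exact (WB F).add_mem ((WB F).add_mem ((WB F).smul_mem _ (key _ _)) ((WB F).smul_mem _ (key _ _)))
    ((WB F).smul_mem _ (key _ _))

theorem stb_WA_of_WB (h : Stb K (WB F)) : Stb K (WA F) := by
  rintro g hg _ ⟨v, rfl⟩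
  have key : ∀ a c : Fin 3 → F, g (zornMul (iB a) (iB c)) ∈ WA F := by
    intro a c
    rw [mem_AutO.1 (hK hg)]
    obtain ⟨a', ha'⟩ := h g hg (iB a) ⟨a, rfl⟩
    obtain ⟨c', hc'⟩ := h g hg (iB c) ⟨c, rfl⟩
    rw [← ha', ← hc', zorn_iB]
    exact ⟨_, rfl⟩
  have hv : iA v = (-v 0) • zornMul (iB (Pi.single 1 1)) (iB (Pi.single 2 1)) +
      (-v 1) • zornMul (iB (Pi.single 2 1)) (iB (Pi.single 0 1)) +
      (-v 2) • zornMul (iB (Pi.single 0 1)) (iB (Pi.single 1 1)) := by
    rw [zorn_iB, zorn_iB, zorn_iB, iA_apply, iA_apply, iA_apply, iA_apply]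
    (refine And.elim (fun cj1 => And.elim fun cj2 => And.elim fun cj3 => And.elim fun cj4 => And.elim fun cj5 => And.elim fun cj6 => And.elim fun cj7 cj8 => by apply ext8; exacts [cj1, cj2, cj3, cj4, cj5, cj6, cj7, cj8]) ?_; simp)
  rw [hv, map_add, map_add, map_smul, map_smul, map_smul]
  exact (WA F).add_mem ((WA F).add_mem ((WA F).smul_mem _ (key _ _)) ((WA F).smul_mem _ (key _ _)))
    ((WA F).smul_mem _ (key _ _))

theorem stb_EE_of_WA (h : Stb K (WA F)) : Stb K (EE F) := by
  apply stb_EE_of_W6 hK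
  rw [W6_eq]
  exact stb_sup h (stb_WB_of_WA hK h)

theorem stb_EE_of_WB (h : Stb K (WB F)) : Stb K (EE F) := by
  apply stb_EE_of_W6 hK
  rw [W6_eq]
  exact stb_sup (stb_WA_of_WB hK h) h

/-- singular vectors -/
theorem stb_of_sing {U X : Submodule F (V F)} (h : Stb K U) (hX : X ≤ U) (hX0 : ∀ x ∈ X, nm x = 0)
    (hU : ∀ x ∈ U, nm x = 0 → x ∈ X) : Stb K X := by
  intro g hg x hx
  apply hU _ (h g hg x (hX hx))
  rw [map_nm (hK hg)]
  exact hX0 x hx

/-- the vector of trace zero in `EE` -/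
def l0 (F : Type*) [Field F] : V F := ![1, 0, 0, 0, 0, 0, 0, -1]

omit hK in
theorem pE_eq_l0 {x : V F} (hx : tr x = 0) : pE F x = x 0 • l0 F := by
  have h1 : x 7 = - x 0 := by
    unfold tr at hx
    linear_combination hx
  rw [pE_apply, l0]
  apply ext8 <;> simp [h1]

variable [Finite F] {A : Matrix.SpecialLinearGroup (Fin 3) F} {r : ℕ} (h : Tor A r) (hs : slM F A ∈ K)
include h hs

/-- **invariant subspaces of the vectors of trace zero** -/
theorem main_cases {U : Submodule F (V F)} (hU : Stb K U) (hU7 : ∀ x ∈ U, tr x = 0) :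
    Stb K (EE F) ∨ (∀ x, tr x = 0 → x ∈ U) ∨ ∀ x ∈ U, ∃ c : F, x = c • l0 F := by
  have hsU : ∀ x ∈ U, slM F A x ∈ U := hU _ hs
  have hE : ∀ {x : V F}, x ∈ U → pE F x ∈ U := fun hx => h.pE_mem' hsU hx
  have hsub : ∀ x ∈ U, x - pE F x ∈ U ⊓ W6 F := by
    intro x hx
    refine ⟨U.sub_mem hx (hE hx), ?_⟩
    rw [SetLike.mem_coe, ← pE_eq_zero, map_sub, pE_of_mem (pE_mem x), sub_self]
  have hinv : ∀ x ∈ U ⊓ W6 F, slM F A x ∈ U ⊓ W6 F := by
    rintro x ⟨hx, hx6⟩
    refine ⟨hsU x hx, ?_⟩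
    rw [SetLike.mem_coe, ← pE_eq_zero, pE_slM, pE_eq_zero]
    exact hx6
  have hnm : ∀ x ∈ U, (pA F x = 0 ∨ pB F x = 0) → nm x = 0 → pE F x = 0 := by
    intro x hx hpx hn
    have h1 : x 7 = - x 0 := by
      have := hU7 x hx
      unfold tr at this
      linear_combination this
    have h2 : x 1 * x 4 + x 2 * x 5 + x 3 * x 6 = 0 := by
      rcases hpx with hp | hp
      · rw [pA_apply] at hp
        have e1 : x 1 = 0 := congrFun hp 0
        have e2 : x 2 = 0 := congrFun hp 1
        have e3 : x 3 = 0 := congrFun hp 2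
        rw [e1, e2, e3]; ring
      · rw [pB_apply] at hp
        have e1 : x 4 = 0 := congrFun hp 0
        have e2 : x 5 = 0 := congrFun hp 1
        have e3 : x 6 = 0 := congrFun hp 2
        rw [e1, e2, e3]; ring
    unfold nm at hn
    rw [h2, h1] at hn
    have h3 : x 0 = 0 := by
      have : x 0 ^ 2 = 0 := by linear_combination -hn
      exact pow_eq_zero_iff (two_ne_zero) |>.1 this
    rw [pE_eq_l0 (hU7 x hx), h3, zero_smul]
  rcases h.cases6 hinv inf_le_right with h0 | h0 | h0 | h0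
  · right; right
    intro x hx
    have h1 := hsub x hx
    rw [h0, Submodule.mem_bot, sub_eq_zero] at h1
    exact ⟨x 0, by rw [← pE_eq_l0 (hU7 x hx)]; exact h1⟩
  · left
    apply stb_EE_of_WA hK
    apply stb_of_sing hK hU (by rw [← h0]; exact inf_le_left)
    · rintro _ ⟨v, rfl⟩
      rw [iA_apply]
      simp [nm]
    · intro x hx hn
      have h1 := hsub x hx
      rw [h0] at h1
      obtain ⟨v, hv⟩ := h1
      have h2 : pB F x = 0 := by
        have h3 : x = iA v + pE F x := by rw [hv, sub_add_cancel]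
        rw [h3, map_add, pB_iA, pB_EE (pE_mem x), add_zero]
      rw [hnm x hx (Or.inr h2) hn, sub_zero] at hv
      exact ⟨v, hv⟩
  · left
    apply stb_EE_of_WB hK
    apply stb_of_sing hK hU (by rw [← h0]; exact inf_le_left)
    · rintro _ ⟨v, rfl⟩
      rw [iB_apply]
      simp [nm]
    · intro x hx hn
      have h1 := hsub x hx
      rw [h0] at h1
      obtain ⟨v, hv⟩ := h1
      have h2 : pA F x = 0 := by
        have h3 : x = iB v + pE F x := by rw [hv, sub_add_cancel]
        rw [h3, map_add, pA_iB, pA_EE (pE_mem x), add_zero]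
      rw [hnm x hx (Or.inl h2) hn, sub_zero] at hv
      exact ⟨v, hv⟩
  · have hW : W6 F ≤ U := by rw [← h0]; exact inf_le_left
    by_cases hUW : U ≤ W6 F
    · left
      apply stb_EE_of_W6 hK
      rwa [le_antisymm hW hUW]
    · right; left
      obtain ⟨x, hx, hx6⟩ := SetLike.not_le_iff_exists.1 hUW
      have hl : l0 F ∈ U := by
        have h1 := hE hx
        rw [pE_eq_l0 (hU7 x hx)] at h1
        have h2 : x 0 ≠ 0 := by
          intro h3
          apply hx6
          rw [← pE_eq_zero, pE_eq_l0 (hU7 x hx), h3, zero_smul]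
        have h3 := U.smul_mem (x 0)⁻¹ h1
        rwa [smul_smul, inv_mul_cancel₀ h2, one_smul] at h3
      intro y hy
      rw [decomp y, pE_eq_l0 hy]
      exact U.add_mem (U.add_mem (U.smul_mem _ hl) (hW (iA_mem_W6 _))) (hW (iB_mem_W6 _))

end K

/-! ### the stabiliser -/

/-- the stabiliser of the subalgebra -/
def MM (F : Type*) [Field F] : Subgroup (V F ≃ₗ[F] V F) where
  carrier := {g | ∀ x, g x ∈ EE F ↔ x ∈ EE F}
  one_mem' := fun x => Iff.rfl
  mul_mem' {g h} hg hh := fun x => by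
    change g (h x) ∈ EE F ↔ x ∈ EE F
    rw [hg, hh]
  inv_mem' {g} hg := fun x => by
    have h1 : g (g⁻¹ x) = x := g.apply_symm_apply x
    rw [← hg (g⁻¹ x), h1]

theorem le_MM {K : Subgroup (V F ≃ₗ[F] V F)} : K ≤ MM F ↔ Stb K (EE F) := by
  constructor
  · intro h g hg x hx
    exact (h hg x).2 hx
  · intro h g hg x
    refine ⟨fun hx => ?_, fun hx => h g hg x hx⟩
    have h1 := h g⁻¹ (K.inv_mem hg) _ hx
    have h2 : g⁻¹ (g x) = x := g.symm_apply_apply x
    rwa [h2] at h1

theorem not_AutO_le : ¬ AutO F ≤ MM F := by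
  rw [le_MM]
  intro h
  have h1 := h _ (tau_mem (![1, 0, 0] : Fin 3 → F)) e1 (by rw [mem_EE]; simp [e1])
  have h2 := (mem_EE.1 h1).1
  rw [tau_apply, tau1] at h2
  simp [e1] at h2

section simple

variable {K S : Subgroup (V F ≃ₗ[F] V F)} (hK : K ≤ AutO F) (hSK : S ≤ K)
include hK hSK

/-- the images of the idempotent -/
theorem idem_cases (hSE : Stb S (EE F)) {g : V F ≃ₗ[F] V F} (hg : g ∈ S) : g e1 = e1 ∨ g e1 = o - e1 := by
  have h1 : g e1 ∈ EE F := hSE g hg e1 (by rw [mem_EE]; simp [e1])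
  have h2 : zornMul (g e1) (g e1) = g e1 := by
    rw [← mem_AutO.1 (hK (hSK hg))]
    congr 1
    apply ext8 <;> simp [mul0, mul1, mul2, mul3, mul4, mul5, mul6, mul7, e1]
  have h3 : tr (g e1) = 1 := by
    rw [map_tr (hK (hSK hg))]
    simp [tr, e1]
  generalize g e1 = y at h1 h2 h3
  obtain ⟨k1, k2, k3, k4, k5, k6⟩ := mem_EE.1 h1
  have h4 := congrFun h2 0
  rw [mul0, k1, k2, k3] at h4
  have h5 : y 0 * (y 0 - 1) = 0 := by linear_combination h4
  unfold tr at h3
  rcases mul_eq_zero.1 h5 with h6 | h6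
  · right
    have h7 : y 7 = 1 := by rw [h6, zero_add] at h3; exact h3
    apply ext8 <;> simp [h6, h7, k1, k2, k3, k4, k5, k6, e1, o]
  · left
    have h6' : y 0 = 1 := sub_eq_zero.1 h6
    have h7 : y 7 = 0 := by rw [h6'] at h3; linear_combination h3
    apply ext8 <;> simp [h6', h7, k1, k2, k3, k4, k5, k6, e1]

/-- a simple group stabilising the subalgebra fixes it -/
theorem fix_of_stb [IsSimpleGroup S] (hna : ∃ a ∈ S, ∃ b ∈ S, a * b ≠ b * a) (hSE : Stb S (EE F))
    {g : V F ≃ₗ[F] V F} (hg : g ∈ S) {x : V F} (hx : x ∈ EE F) : g x = x := by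
  let N : Subgroup S :=
    { carrier := {g | (g : V F ≃ₗ[F] V F) e1 = e1}
      one_mem' := rfl
      mul_mem' := by
        intro a b ha hb
        have ha' : (a : V F ≃ₗ[F] V F) e1 = e1 := ha
        have hb' : (b : V F ≃ₗ[F] V F) e1 = e1 := hb
        change (a : V F ≃ₗ[F] V F) ((b : V F ≃ₗ[F] V F) e1) = e1
        rw [hb', ha']
      inv_mem' := by
        intro a ha
        have ha' : (a : V F ≃ₗ[F] V F) e1 = e1 := ha
        change (a : V F ≃ₗ[F] V F).symm e1 = e1
        rw [LinearEquiv.symm_apply_eq]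
        exact ha'.symm }
  have hmem : ∀ g : S, g ∈ N ↔ (g : V F ≃ₗ[F] V F) e1 = e1 := fun g => Iff.rfl
  have hNn : N.Normal := by
    refine ⟨fun g hg k => ?_⟩
    have hg' : (g : V F ≃ₗ[F] V F) e1 = e1 := hg
    have hgo : (g : V F ≃ₗ[F] V F) (o - e1) = o - e1 := by
      rw [map_sub, map_o (hK (hSK g.2)), hg']
    rw [hmem]
    have h1 : (k : V F ≃ₗ[F] V F) ((k : V F ≃ₗ[F] V F)⁻¹ e1) = e1 := (k : V F ≃ₗ[F] V F).apply_symm_apply e1
    change (k : V F ≃ₗ[F] V F) ((g : V F ≃ₗ[F] V F) ((k : V F ≃ₗ[F] V F)⁻¹ e1)) = e1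
    rcases idem_cases hK hSK hSE (S.inv_mem k.2) with h2 | h2
    · rw [h2] at h1 ⊢
      rw [hg', h1]
    · rw [h2] at h1 ⊢
      rw [hgo, h1]
  have hNtop : N = ⊤ := by
    rcases hNn.eq_bot_or_eq_top with h0 | h0
    · exfalso
      have hsq : ∀ g : S, g * g = 1 := by
        intro g
        have h1 : g * g ∈ N := by
          rw [hmem]
          change (g : V F ≃ₗ[F] V F) ((g : V F ≃ₗ[F] V F) e1) = e1
          rcases idem_cases hK hSK hSE g.2 with h2 | h2
          · rw [h2, h2]
          · rw [h2, map_sub, map_o (hK (hSK g.2)), h2]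
            abel
        rw [h0, Subgroup.mem_bot] at h1
        exact h1
      obtain ⟨a, ha, b, hb, hab⟩ := hna
      apply hab
      have h1 : ∀ g ∈ S, g * g = 1 := by
        intro g hg
        exact congrArg Subtype.val (hsq ⟨g, hg⟩)
      have h2 := h1 a ha
      have h3 := h1 b hb
      have h4 := h1 (a * b) (S.mul_mem ha hb)
      calc a * b = (b * b) * (a * b) * (a * a) := by rw [h2, h3]; group
        _ = b * ((b * a) * (b * a)) * a := by group
        _ = b * a := by
          rw [h1 (b * a) (S.mul_mem hb ha)]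
          group
    · exact h0
  have hge : g e1 = e1 := by
    have h1 : (⟨g, hg⟩ : S) ∈ N := by rw [hNtop]; exact Subgroup.mem_top _
    exact h1
  have hx2 : x = x 0 • e1 + x 7 • (o - e1) := by
    obtain ⟨k1, k2, k3, k4, k5, k6⟩ := mem_EE.1 hx
    apply ext8 <;> simp [k1, k2, k3, k4, k5, k6, e1, o]
  rw [hx2, map_add, map_smul, map_smul, map_sub, hge, map_o (hK (hSK hg))]

/-- **the second case** -/
theorem stb_of_simple [IsSimpleGroup S] (hna : ∃ a ∈ S, ∃ b ∈ S, a * b ≠ b * a)
    (hn : ∀ k ∈ K, ∀ g ∈ S, k⁻¹ * g * k ∈ S) [Finite F] {A : Matrix.SpecialLinearGroup (Fin 3) F} {r : ℕ}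
    (h : Tor A r) (hs : slM F A ∈ S) (hSE : Stb S (EE F)) : Stb K (EE F) := by
  intro k hk x hx
  apply h.mem_EE
  have h1 := fix_of_stb hK hSK hna hSE (hn k hk _ hs) hx
  have h2 : k ((k⁻¹ * slM F A * k) x) = k x := by rw [h1]
  have h3 : k ((k⁻¹ * slM F A * k) x) = slM F A (k x) := k.apply_symm_apply _
  rwa [h3] at h2

end simple

section cyc

variable {K : Subgroup (V F ≃ₗ[F] V F)} [Finite F] {A : Matrix.SpecialLinearGroup (Fin 3) F} {r : ℕ}
  (h : Tor A r)
include h

/-- a non-trivial matrix commuting with `A` fixes nothing outside the subalgebra -/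
theorem mem_EE_of_comm {B : Matrix.SpecialLinearGroup (Fin 3) F} (hB : B ≠ 1) (hAB : A * B = B * A) {x : V F}
    (hx : slM F B x = x) : x ∈ EE F := by
  let U : Submodule F (V F) := LinearMap.ker (((slM F B : V F ≃ₗ[F] V F) : V F →ₗ[F] V F) - LinearMap.id)
  have hU : ∀ y, y ∈ U ↔ slM F B y = y := by
    intro y
    rw [LinearMap.mem_ker, LinearMap.sub_apply, sub_eq_zero]
    rfl
  have hsU : ∀ y ∈ U, slM F A y ∈ U := by
    intro y hy
    rw [hU] at hy ⊢
    have h1 : slM F B (slM F A y) = slM F A (slM F B y) := by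
      have h2 : slM F B * slM F A = slM F A * slM F B := by rw [← map_mul, ← map_mul, hAB]
      exact congrArg (fun f : V F ≃ₗ[F] V F => f y) h2
    rw [h1, hy]
  have hBne : ∀ W : Submodule F (V F), (W = WA F ∨ W = WB F ∨ W = W6 F) → ¬ W ≤ U := by
    intro W hW hle
    apply hB
    have hAA : (∀ v, slM F B (iA v) = iA v) → B = 1 := by
      intro hv
      apply Subtype.ext
      ext i j
      have h1 := hv (Pi.single j 1)
      rw [slM_iA] at h1
      have h2 := congrFun (iA_inj h1) i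
      have h3 : B.1 i j = (Pi.single j 1 : Fin 3 → F) i := by simpa using h2
      rw [h3, Matrix.SpecialLinearGroup.coe_one, Matrix.one_apply, Pi.single_apply]
    rcases hW with rfl | rfl | rfl
    · exact hAA fun v => (hU _).1 (hle ⟨v, rfl⟩)
    · have h1 : ∀ v, cofM B *ᵥ v = v := by
        intro v
        have h1 := (hU _).1 (hle ⟨v, rfl⟩)
        rw [slM_iB] at h1
        exact iB_inj h1
      have h2 : cofM B = 1 := by
        ext i j
        have h3 := congrFun (h1 (Pi.single j 1)) i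
        have h4 : cofM B i j = (Pi.single j 1 : Fin 3 → F) i := by simpa using h3
        rw [h4, Matrix.one_apply, Pi.single_apply]
      have h3 := cofM_mul B
      rw [h2, Matrix.mul_one] at h3
      apply Subtype.ext
      have h4 := congrArg Matrix.transpose h3
      rw [Matrix.transpose_transpose, Matrix.transpose_one] at h4
      rw [h4, Matrix.SpecialLinearGroup.coe_one]
    · exact hAA fun v => (hU _).1 (hle (iA_mem_W6 v))
  have hbot : U ⊓ W6 F = ⊥ := by
    rcases h.cases6 (U := U ⊓ W6 F) (by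
      rintro y ⟨hy, hy6⟩
      refine ⟨hsU y hy, ?_⟩
      rw [SetLike.mem_coe, ← pE_eq_zero, pE_slM, pE_eq_zero]
      exact hy6) inf_le_right with h0 | h0 | h0 | h0
    · exact h0
    · exact absurd (by rw [← h0]; exact inf_le_left) (hBne _ (Or.inl rfl))
    · exact absurd (by rw [← h0]; exact inf_le_left) (hBne _ (Or.inr (Or.inl rfl)))
    · exact absurd (by rw [← h0]; exact inf_le_left) (hBne _ (Or.inr (Or.inr rfl)))
  have h1 : x - pE F x ∈ U ⊓ W6 F := by
    refine ⟨?_, ?_⟩
    · refine U.sub_mem ((hU x).2 hx) ?_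
      rw [hU]
      exact slM_EE B (pE_mem x)
    · rw [SetLike.mem_coe, ← pE_eq_zero, map_sub, pE_of_mem (pE_mem x), sub_self]
  rw [hbot, Submodule.mem_bot, sub_eq_zero] at h1
  rw [h1]
  exact pE_mem x

/-- **the first case** -/
theorem stb_of_cyc {N : Subgroup (V F ≃ₗ[F] V F)} (hn : ∀ k ∈ K, ∀ g ∈ N, k⁻¹ * g * k ∈ N)
    {B : Matrix.SpecialLinearGroup (Fin 3) F} (hB : B ≠ 1) (hAB : A * B = B * A) (hBN : slM F B ∈ N)
    (hN : ∀ g ∈ N, ∃ C : Matrix.SpecialLinearGroup (Fin 3) F, g = slM F C) : Stb K (EE F) := by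
  intro k hk x hx
  apply mem_EE_of_comm h hB hAB
  obtain ⟨C, hC⟩ := hN _ (hn k hk _ hBN)
  have h1 : (k⁻¹ * slM F B * k) x = x := by
    rw [hC]
    exact slM_EE C hx
  have h2 : k ((k⁻¹ * slM F B * k) x) = k x := by rw [h1]
  have h3 : k ((k⁻¹ * slM F B * k) x) = slM F B (k x) := k.apply_symm_apply _
  rwa [h3] at h2

end cyc

end Cfsg.Agent.H244.G2S

private theorem dce_9c6fec17f8ab : _root_.True := by
  try have : _root_.True := by simp only [_root_.Cfsg.Agent.H244.G2S.l0.eq_1]
  exact _root_.True.intro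
end

-- part: H244/G2S/Rep
section
prune_inst 0x2004400000000008000502302000000000040200400000b84006000242f00289c400410000081000100c110009000001000010422000000a00080000020000000000063000a10020001000a080000000000000000000000000000000051000000000000
set_option linter.all false
open scoped Cfsg.Agent.FastGrp

/-!
# The subquotients of degree 7 (odd characteristic) and 6 (characteristic two) (helper244)
-/

set_option autoImplicit false

namespace Cfsg.Agent.H244.G2S

open Module Matrix Cfsg.Lie Cfsg.Agent.H161.Oct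
open Cfsg.Agent.H436 (Prim)

/-- a subquotient of the space of the vectors of trace zero -/
structure SubQ (F : Type*) [Field F] (ι : Type) where
  inc : (ι → F) →ₗ[F] V F
  prj : V F →ₗ[F] (ι → F)
  prj_inc : ∀ y, prj (inc y) = y
  tr_inc : ∀ y, tr (inc y) = 0
  key : ∀ g ∈ AutO F, ∀ x, tr x = 0 → prj (g (inc (prj x))) = prj (g x)
  key2 : ∀ x y, tr x = 0 → tr y = 0 → bl (inc (prj x)) y = bl x y
  nondeg : ∀ y, (∀ y', bl (inc y) (inc y') = 0) → y = 0
  l0 : prj (l0 F) = 0 ∨ (2 : F) ≠ 0

section mk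

variable (F : Type*) [Field F]

/-- degree seven -/
def inc7 : (Fin 7 → F) →ₗ[F] V F where
  toFun y := ![y 0, y 1, y 2, y 3, y 4, y 5, y 6, -y 0]
  map_add' x y := by apply ext8 <;> simp; ring
  map_smul' c x := by apply ext8 <;> simp

def prj7 : V F →ₗ[F] (Fin 7 → F) where
  toFun x := ![x 0, x 1, x 2, x 3, x 4, x 5, x 6]
  map_add' x y := by ext i; fin_cases i <;> rfl
  map_smul' c x := by ext i; fin_cases i <;> rfl

/-- degree six -/
def inc6 : (Fin 6 → F) →ₗ[F] V F where
  toFun y := ![0, y 0, y 1, y 2, y 3, y 4, y 5, 0]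
  map_add' x y := by apply ext8 <;> simp
  map_smul' c x := by apply ext8 <;> simp

def prj6 : V F →ₗ[F] (Fin 6 → F) where
  toFun x := ![x 1, x 2, x 3, x 4, x 5, x 6]
  map_add' x y := by ext i; fin_cases i <;> rfl
  map_smul' c x := by ext i; fin_cases i <;> rfl

variable {F}

theorem inc7_apply (y : Fin 7 → F) : inc7 F y = ![y 0, y 1, y 2, y 3, y 4, y 5, y 6, -y 0] := rfl
theorem prj7_apply (x : V F) : prj7 F x = ![x 0, x 1, x 2, x 3, x 4, x 5, x 6] := rfl
theorem inc6_apply (y : Fin 6 → F) : inc6 F y = ![0, y 0, y 1, y 2, y 3, y 4, y 5, 0] := rfl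
theorem prj6_apply (x : V F) : prj6 F x = ![x 1, x 2, x 3, x 4, x 5, x 6] := rfl

theorem inc_prj7 {x : V F} (hx : tr x = 0) : inc7 F (prj7 F x) = x := by
  have h1 : - x 0 = x 7 := by
    unfold tr at hx
    linear_combination -hx
  rw [inc7_apply, prj7_apply]
  apply ext8 <;> simp [h1]

/-- **degree seven** -/
def sub7 (h2 : (2 : F) ≠ 0) : SubQ F (Fin 7) where
  inc := inc7 F
  prj := prj7 F
  prj_inc y := by
    rw [inc7_apply, prj7_apply]
    ext i; fin_cases i <;> rfl
  tr_inc y := by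
    rw [inc7_apply]
    simp [tr]
  key g hg x hx := by rw [inc_prj7 hx]
  key2 x y hx hy := by rw [inc_prj7 hx]
  nondeg y hy := by
    have key : ∀ i : Fin 7, bl (inc7 F y) (inc7 F (Pi.single i 1)) = 0 := fun i => hy _
    have e0 := key 0
    have e1 := key 1
    have e2 := key 2
    have e3 := key 3
    have e4 := key 4
    have e5 := key 5
    have e6 := key 6
    simp only [inc7_apply, bl] at e0 e1 e2 e3 e4 e5 e6
    simp at e0 e1 e2 e3 e4 e5 e6
    ext i
    fin_cases i
    · have h3 : (2 : F) * y 0 = 0 := by linear_combination -e0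
      exact (mul_eq_zero.1 h3).resolve_left h2
    · simpa using e4
    · simpa using e5
    · simpa using e6
    · simpa using e1
    · simpa using e2
    · simpa using e3
  l0 := Or.inr h2

theorem inc_prj6 {x : V F} (h2 : (2 : F) = 0) (hx : tr x = 0) : inc6 F (prj6 F x) + x 0 • o = x := by
  have h1 : x 0 = x 7 := by
    unfold tr at hx
    linear_combination -hx + x 0 * h2
  rw [inc6_apply, prj6_apply]
  apply ext8 <;> simp [o, h1]

/-- **degree six** -/
def sub6 (h2 : (2 : F) = 0) : SubQ F (Fin 6) where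
  inc := inc6 F
  prj := prj6 F
  prj_inc y := by
    rw [inc6_apply, prj6_apply]
    ext i; fin_cases i <;> rfl
  tr_inc y := by
    rw [inc6_apply]
    simp [tr]
  key g hg x hx := by
    conv_rhs => rw [← inc_prj6 h2 hx]
    rw [map_add, map_smul, map_o hg, map_add, map_smul]
    have h3 : prj6 F (o : V F) = 0 := by
      rw [prj6_apply]
      ext i; fin_cases i <;> rfl
    rw [h3, smul_zero, add_zero]
  key2 x y hx hy := by
    conv_rhs => rw [← inc_prj6 h2 hx]
    rw [bl_add', bl_smul', bl_comm o y, bl_o, hy, mul_zero, add_zero]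
  nondeg y hy := by
    have key : ∀ i : Fin 6, bl (inc6 F y) (inc6 F (Pi.single i 1)) = 0 := fun i => hy _
    have e0 := key 0
    have e1 := key 1
    have e2 := key 2
    have e3 := key 3
    have e4 := key 4
    have e5 := key 5
    simp only [inc6_apply, bl] at e0 e1 e2 e3 e4 e5
    simp at e0 e1 e2 e3 e4 e5
    ext i
    fin_cases i
    · simpa using e3
    · simpa using e4
    · simpa using e5
    · simpa using e0
    · simpa using e1
    · simpa using e2
  l0 := by
    left
    rw [prj6_apply]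
    ext i; fin_cases i <;> simp [G2S.l0]

end mk

namespace SubQ

variable {F : Type*} [Field F] {ι : Type} (Q : SubQ F ι)

theorem bl_key {x y : V F} (hx : tr x = 0) (hy : tr y = 0) : bl (Q.inc (Q.prj x)) (Q.inc (Q.prj y)) = bl x y := by
  rw [Q.key2 x _ hx (Q.tr_inc _), bl_comm, Q.key2 y x hy hx, bl_comm]

/-- the representation -/
def rho : AutO F →* Module.End F (ι → F) where
  toFun g := Q.prj ∘ₗ ((g : V F ≃ₗ[F] V F) : V F →ₗ[F] V F) ∘ₗ Q.inc
  map_one' := by
    apply LinearMap.ext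
    intro y
    exact Q.prj_inc y
  map_mul' g h := by
    apply LinearMap.ext
    intro y
    change Q.prj ((g : V F ≃ₗ[F] V F) ((h : V F ≃ₗ[F] V F) (Q.inc y))) =
      Q.prj ((g : V F ≃ₗ[F] V F) (Q.inc (Q.prj ((h : V F ≃ₗ[F] V F) (Q.inc y)))))
    rw [Q.key g g.2 _ (by rw [map_tr h.2, Q.tr_inc])]

theorem rho_apply (g : AutO F) (y : ι → F) : Q.rho g y = Q.prj ((g : V F ≃ₗ[F] V F) (Q.inc y)) := rfl

/-- the form -/
def form : (ι → F) →ₗ[F] (ι → F) →ₗ[F] F :=
  LinearMap.mk₂ F (fun x y => bl (Q.inc x) (Q.inc y)) (fun x y z => by rw [map_add, bl_add'])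
    (fun c x y => by rw [map_smul, bl_smul', smul_eq_mul]) (fun x y z => by rw [map_add, bl_add])
    (fun c x y => by rw [map_smul, bl_smul, smul_eq_mul])

theorem form_apply (x y : ι → F) : Q.form x y = bl (Q.inc x) (Q.inc y) := rfl

theorem form_rho (g : AutO F) (x y : ι → F) : Q.form (Q.rho g x) (Q.rho g y) = Q.form x y := by
  rw [form_apply, form_apply, rho_apply, rho_apply, Q.bl_key (by rw [map_tr g.2, Q.tr_inc])
    (by rw [map_tr g.2, Q.tr_inc]), map_bl g.2]

theorem form_nondeg (x : ι → F) (h : ∀ y, Q.form x y = 0) : x = 0 := Q.nondeg x h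

section irr

variable {K : Subgroup (V F ≃ₗ[F] V F)} (hK : K ≤ AutO F) [Finite F] {A : Matrix.SpecialLinearGroup (Fin 3) F} {r : ℕ}
  (h : Tor A r) (hs : slM F A ∈ K) (hns : ¬ Stb K (EE F))
include hK h hs hns

/-- **irreducibility** -/
theorem irr (W : Submodule F (ι → F)) (hW : ∀ g ∈ K, ∀ y ∈ W, Q.prj (g (Q.inc y)) ∈ W) : W = ⊥ ∨ W = ⊤ := by
  let U : Submodule F (V F) :=
    { carrier := {x | tr x = 0 ∧ Q.prj x ∈ W}
      zero_mem' := ⟨by simp [tr], by rw [map_zero]; exact W.zero_mem⟩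
      add_mem' := by
        rintro x y ⟨hx, hx'⟩ ⟨hy, hy'⟩
        exact ⟨by rw [tr_add, hx, hy, add_zero], by rw [map_add]; exact W.add_mem hx' hy'⟩
      smul_mem' := by
        rintro c x ⟨hx, hx'⟩
        exact ⟨by rw [tr_smul, hx, mul_zero], by rw [map_smul]; exact W.smul_mem _ hx'⟩ }
  have hU : ∀ x, x ∈ U ↔ tr x = 0 ∧ Q.prj x ∈ W := fun x => Iff.rfl
  have hUK : Stb K U := by
    intro g hg x hx
    obtain ⟨hx1, hx2⟩ := (hU x).1 hx
    rw [hU]
    refine ⟨by rw [map_tr (hK hg), hx1], ?_⟩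
    rw [← Q.key g (hK hg) x hx1]
    exact hW g hg _ hx2
  have hinc : ∀ y ∈ W, Q.inc y ∈ U := by
    intro y hy
    rw [hU]
    exact ⟨Q.tr_inc y, by rw [Q.prj_inc]; exact hy⟩
  rcases main_cases hK h hs hUK (fun x hx => hx.1) with h1 | h1 | h1
  · exact absurd h1 hns
  · right
    rw [eq_top_iff]
    intro y _
    have h2 := ((hU _).1 (h1 _ (Q.tr_inc y))).2
    rwa [Q.prj_inc] at h2
  · left
    rw [eq_bot_iff]
    intro y hy
    rw [Submodule.mem_bot]
    obtain ⟨c, hc⟩ := h1 _ (hinc y hy)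
    have h3 : y = c • Q.prj (G2S.l0 F) := by rw [← map_smul, ← hc, Q.prj_inc]
    by_contra hy0
    have hc0 : c ≠ 0 := by
      rintro rfl
      rw [zero_smul] at h3
      exact hy0 h3
    rcases Q.l0 with h4 | h4
    · rw [h4, smul_zero] at h3
      exact hy0 h3
    · -- `l0` spans an invariant line, and so the subalgebra is invariant
      apply hns
      have hl : G2S.l0 F ∈ U := by
        have h5 := U.smul_mem c⁻¹ (hinc y hy)
        rwa [hc, smul_smul, inv_mul_cancel₀ hc0, one_smul] at h5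
      intro g hg x hx
      have h5 : x = ((x 0 + x 7) / 2) • o + ((x 0 - x 7) / 2) • G2S.l0 F := by
        obtain ⟨k1, k2, k3, k4, k5, k6⟩ := mem_EE.1 hx
        apply ext8 <;> simp [k1, k2, k3, k4, k5, k6, o, G2S.l0] <;> field_simp <;> ring
      obtain ⟨d, hd⟩ := h1 _ (hUK g hg _ hl)
      rw [h5, map_add, map_smul, map_smul, map_o (hK hg), hd, smul_smul, mem_EE]
      simp [o, G2S.l0]

/-- an endomorphism in the commutant with an eigenvalue is scalar -/
theorem scalar_of_eig {T : Module.End F (ι → F)} (hT : ∀ g ∈ K, ∀ y, T (Q.prj (g (Q.inc y))) = Q.prj (g (Q.inc (T y))))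
    {c : F} {v : ι → F} (hv : v ≠ 0) (hc : T v = c • v) (y : ι → F) : T y = c • y := by
  let W : Submodule F (ι → F) := LinearMap.ker (T - c • LinearMap.id)
  have hW : ∀ y, y ∈ W ↔ T y = c • y := by
    intro y
    rw [LinearMap.mem_ker, LinearMap.sub_apply, sub_eq_zero]
    rfl
  have hWt : W = ⊤ := by
    refine (Q.irr hK h hs hns W ?_).resolve_left ?_
    · intro g hg y hy
      rw [hW] at hy ⊢
      rw [hT g hg, hy, map_smul, map_smul, map_smul]
    · intro h0
      apply hv
      rw [← Submodule.mem_bot F, ← h0, hW]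
      exact hc
  rw [← hW, hWt]
  exact Submodule.mem_top

/-- a polynomial in an element of the commutant with a kernel is zero -/
theorem eq_zero_of_ker {T : Module.End F (ι → F)}
    (hT : ∀ g ∈ K, ∀ y, T (Q.prj (g (Q.inc y))) = Q.prj (g (Q.inc (T y))))
    {v : ι → F} (hv : v ≠ 0) (hc : T v = 0) : T = 0 := by
  apply LinearMap.ext
  intro y
  rw [Q.scalar_of_eig hK h hs hns hT (c := 0) hv (by rw [hc, zero_smul]), zero_smul]
  rfl

end irr

end SubQ

end Cfsg.Agent.H244.G2S
end

-- part: H244/G2S/Cub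
section
prune_inst 0x200440000002000000008003000004480001000003000020400e000a00a0008040060100c00000001e1c801800000001000080400000002000300000020020800050041200a3040e0009000000000000000000000000000000000000010004000000000
set_option linter.all false
open scoped Cfsg.Agent.FastGrp

/-!
# Endomorphisms annihilated by an irreducible cubic (helper244)
-/

set_option autoImplicit false

namespace Cfsg.Agent.H244.G2S

open Module Polynomial

variable {F : Type*} [Field F] {V : Type*} [AddCommGroup V] [Module F V] [FiniteDimensional F V]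

theorem natDegree_dvd_finrank {f : F[X]} (hf : Irreducible f) (T : Module.End F V) (hT : aeval T f = 0) :
    f.natDegree ∣ finrank F V := by
  have : Fact (Irreducible f) := ⟨hf⟩
  let φ : AdjoinRoot f →+* Module.End F V := Ideal.Quotient.lift _ (aeval T : F[X] →ₐ[F] Module.End F V).toRingHom (by
    intro g hg
    obtain ⟨c, rfl⟩ := Ideal.mem_span_singleton'.1 hg
    change aeval T (c * f) = 0
    rw [map_mul, hT, mul_zero])
  have hφ : ∀ g : F[X], φ (AdjoinRoot.mk f g) = aeval T g := fun g => rfl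
  letI : Module (AdjoinRoot f) V := Module.compHom V φ
  have hsm : ∀ (a : AdjoinRoot f) (v : V), a • v = φ a v := fun a v => rfl
  haveI : IsScalarTower F (AdjoinRoot f) V := by
    refine ⟨fun c a v => ?_⟩
    rw [hsm, hsm, Algebra.smul_def, map_mul, AdjoinRoot.algebraMap_eq, ← AdjoinRoot.mk_C, hφ, aeval_C,
      Module.End.mul_apply, Module.algebraMap_end_apply]
  have h1 := Module.finrank_mul_finrank F (AdjoinRoot f) V
  rw [← h1]
  have h2 : finrank F (AdjoinRoot f) = f.natDegree := (AdjoinRoot.powerBasis hf.ne_zero).finrank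
  rw [h2]
  exact dvd_mul_right _ _

theorem natDegree_dvd_finrank' {f : F[X]} (hf : Irreducible f) (T : Module.End F V) (hT : aeval T f = 0)
    (X : Submodule F V) (hX : ∀ x ∈ X, T x ∈ X) : f.natDegree ∣ finrank F X := by
  apply natDegree_dvd_finrank hf (T.restrict hX)
  have h1 : ∀ (g : F[X]) (x : X), ((aeval (T.restrict hX) g x : X) : V) = aeval T g (x : V) := by
    intro g
    induction g using Polynomial.induction_on' with
    | add a b ha hb =>
      intro x
      rw [map_add, map_add, LinearMap.add_apply, LinearMap.add_apply, Submodule.coe_add, ha, hb]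
    | monomial n c =>
      intro x
      rw [aeval_monomial, aeval_monomial, Module.End.mul_apply, Module.End.mul_apply, Module.algebraMap_end_apply,
        Module.algebraMap_end_apply, Submodule.coe_smul]
      congr 1
      induction n generalizing x with
      | zero => rfl
      | succ n ih =>
        rw [pow_succ, pow_succ, Module.End.mul_apply, Module.End.mul_apply, ih]
        rfl
  apply LinearMap.ext
  intro x
  apply Subtype.ext
  rw [h1, hT]
  rfl

/-- the commutant is closed under polynomials -/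
theorem aeval_comm {T g : Module.End F V} (h : ∀ y, T (g y) = g (T y)) (f : F[X]) (y : V) :
    aeval T f (g y) = g (aeval T f y) := by
  induction f using Polynomial.induction_on' generalizing y with
  | add a b ha hb => rw [map_add, LinearMap.add_apply, LinearMap.add_apply, map_add, ha, hb]
  | monomial n c =>
    rw [aeval_monomial, Module.End.mul_apply, Module.End.mul_apply, Module.algebraMap_end_apply,
      Module.algebraMap_end_apply, map_smul]
    congr 1
    induction n generalizing y with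
    | zero => rfl
    | succ n ih => rw [pow_succ, Module.End.mul_apply, Module.End.mul_apply, h, ih]

/-! ### nilpotent elements commuting with `T` -/

section nil

variable (hV : finrank F V = 6) {T : Module.End F V}
  (hdvd : ∀ X : Submodule F V, (∀ x ∈ X, T x ∈ X) → 3 ∣ finrank F X)
include hV hdvd

theorem nil_ker {N : Module.End F V} (h0 : N ≠ 0) (hN : ∀ x, N (N x) = 0) (hT : ∀ x, T (N x) = N (T x)) :
    finrank F (LinearMap.ker N) = 3 ∧ ∀ x, N x ∈ LinearMap.ker N := by
  have h1 : ∀ x, N x ∈ LinearMap.ker N := fun x => LinearMap.mem_ker.2 (hN x)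
  have h2 : LinearMap.range N ≤ LinearMap.ker N := by
    rintro _ ⟨x, rfl⟩
    exact h1 x
  have h3 := LinearMap.finrank_range_add_finrank_ker N
  have h4 := Submodule.finrank_mono h2
  have h5 := hdvd (LinearMap.ker N) (by
    intro x hx
    rw [LinearMap.mem_ker] at hx ⊢
    rw [← hT, hx, map_zero])
  have h6 : finrank F (LinearMap.range N) ≠ 0 := by
    intro h7
    apply h0
    have h8 := Submodule.finrank_eq_zero.1 h7
    exact LinearMap.range_eq_bot.1 h8
  refine ⟨?_, h1⟩
  rw [hV] at h3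
  omega

/-- two commuting nilpotent elements have the same kernel -/
theorem ker_eq {N N' : Module.End F V} (h0 : N ≠ 0) (hN : ∀ x, N (N x) = 0) (hT : ∀ x, T (N x) = N (T x))
    (h0' : N' ≠ 0) (hN' : ∀ x, N' (N' x) = 0) (hT' : ∀ x, T (N' x) = N' (T x)) (hc : ∀ x, N (N' x) = N' (N x)) :
    LinearMap.ker N = LinearMap.ker N' := by
  obtain ⟨h1, -⟩ := nil_ker hV hdvd h0 hN hT
  obtain ⟨h2, -⟩ := nil_ker hV hdvd h0' hN' hT'
  have h3 : ∀ x ∈ LinearMap.ker N ⊓ LinearMap.ker N', T x ∈ LinearMap.ker N ⊓ LinearMap.ker N' := by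
    rintro x ⟨hx, hx'⟩
    refine ⟨?_, ?_⟩
    · rw [SetLike.mem_coe, LinearMap.mem_ker] at hx ⊢
      rw [← hT, hx, map_zero]
    · rw [SetLike.mem_coe, LinearMap.mem_ker] at hx' ⊢
      rw [← hT', hx', map_zero]
  have h4 := hdvd _ h3
  have h5 : finrank F ↥(LinearMap.ker N ⊓ LinearMap.ker N') ≠ 0 := by
    intro h6
    have h7 := Submodule.finrank_eq_zero.1 h6
    have h8 : LinearMap.ker N' = ⊥ := by
      rw [eq_bot_iff]
      intro v hv
      rw [LinearMap.mem_ker] at hv
      have h9 : N v ∈ LinearMap.ker N ⊓ LinearMap.ker N' := by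
        refine ⟨LinearMap.mem_ker.2 (hN v), LinearMap.mem_ker.2 ?_⟩
        rw [← hc, hv, map_zero]
      rw [h7, Submodule.mem_bot] at h9
      have h10 : v ∈ LinearMap.ker N ⊓ LinearMap.ker N' := ⟨LinearMap.mem_ker.2 h9, LinearMap.mem_ker.2 hv⟩
      rwa [h7] at h10
    rw [h8, finrank_bot] at h2
    omega
  have h6 : finrank F ↥(LinearMap.ker N ⊓ LinearMap.ker N') ≤ finrank F (LinearMap.ker N) :=
    Submodule.finrank_mono inf_le_left
  have h7 : finrank F ↥(LinearMap.ker N ⊓ LinearMap.ker N') = 3 := by omega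
  have h8 := Submodule.eq_of_le_of_finrank_eq (inf_le_left : LinearMap.ker N ⊓ LinearMap.ker N' ≤ LinearMap.ker N)
    (by rw [h7, h1])
  have h9 := Submodule.eq_of_le_of_finrank_eq (inf_le_right : LinearMap.ker N ⊓ LinearMap.ker N' ≤ LinearMap.ker N')
    (by rw [h7, h2])
  rw [← h8]
  exact h9

/-- **involutions in a commuting chain commute** -/
theorem comm_of_chain (h2 : (2 : F) = 0) {a b z : Module.End F V} (ha : a * a = 1) (hb : b * b = 1) (hz : z * z = 1)
    (ha1 : a ≠ 1) (hb1 : b ≠ 1) (hz1 : z ≠ 1) (haz : a * z = z * a) (hbz : b * z = z * b)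
    (hTa : T * a = a * T) (hTb : T * b = b * T) (hTz : T * z = z * T) : a * b = b * a := by
  have hneg : ∀ x : V, x + x = 0 := by
    intro x
    rw [← two_smul F x, h2, zero_smul]
  have key : ∀ {g : Module.End F V}, g * g = 1 → g ≠ 1 → T * g = g * T → g - 1 ≠ 0 ∧
      (∀ x, (g - 1) ((g - 1) x) = 0) ∧ ∀ x, T ((g - 1) x) = (g - 1) (T x) := by
    intro g hg hg1 hTg
    refine ⟨sub_ne_zero.2 hg1, fun x => ?_, fun x => ?_⟩
    · have h1 : g (g x) = x := by rw [← Module.End.mul_apply, hg]; rfl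
      simp only [LinearMap.sub_apply, Module.End.one_apply, map_sub, h1]
      have h3 := hneg (g x)
      have h4 := hneg x
      have e1 : x - g x - (g x - x) = (x + x) - (g x + g x) := by abel
      rw [e1, h3, h4, sub_zero]
    · have h1 : T (g x) = g (T x) := by rw [← Module.End.mul_apply, hTg]; rfl
      simp only [LinearMap.sub_apply, Module.End.one_apply, map_sub, h1]
  obtain ⟨a1, a2, a3⟩ := key ha ha1 hTa
  obtain ⟨b1, b2, b3⟩ := key hb hb1 hTb
  obtain ⟨z1, z2, z3⟩ := key hz hz1 hTz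
  have hcomm : ∀ {g h : Module.End F V}, g * h = h * g → ∀ x, (g - 1) ((h - 1) x) = (h - 1) ((g - 1) x) := by
    intro g h hgh x
    have h1 : (g - 1) * (h - 1) = (h - 1) * (g - 1) := by
      simp only [sub_mul, mul_sub, one_mul, mul_one, hgh]
      abel
    exact congrArg (fun f : Module.End F V => f x) h1
  have k1 := ker_eq hV hdvd a1 a2 a3 z1 z2 z3 (hcomm haz)
  have k2 := ker_eq hV hdvd b1 b2 b3 z1 z2 z3 (hcomm hbz)
  have k3 : LinearMap.ker (a - 1) = LinearMap.ker (b - 1) := by rw [k1, k2]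
  have m1 : (a - 1) * (b - 1) = 0 := by
    apply LinearMap.ext
    intro x
    have := (nil_ker hV hdvd b1 b2 b3).2 x
    rw [← k3] at this
    exact LinearMap.mem_ker.1 this
  have m2 : (b - 1) * (a - 1) = 0 := by
    apply LinearMap.ext
    intro x
    have := (nil_ker hV hdvd a1 a2 a3).2 x
    rw [k3] at this
    exact LinearMap.mem_ker.1 this
  have m3 : (a - 1) * (b - 1) - (b - 1) * (a - 1) = a * b - b * a := by
    simp only [sub_mul, mul_sub, one_mul, mul_one]
    abel
  rw [m1, m2, sub_zero] at m3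
  exact (sub_eq_zero.1 m3.symm)

end nil

end Cfsg.Agent.H244.G2S
end
end
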