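import Cfsg.Agent.H911.AdPSL
import Cfsg.Agent.H244.G2S.Rep_m3
import Cfsg.Agent.H161.G2Emb
import Cfsg.Agent.H638.G2Iso
import Cfsg.Agent.H862.Spr.Rows
import Cfsg.Agent.Prune
set_option linter.all false

section
prune_inst 0x7ffef9fbebf8bfffffff7e7ff7ffcdfdfdb93fffa6dffdcbffec6fff1bdfdb1ac9e5fbad8feb33fe1fb7ca1418ec7bd3fffffeffe26ffc7ffffdfff45ffbffdffdf7bd2c519db8b41ffe6ffeebf07f8e7f3fffffffffffffffffffffffffffbeffbfffffffff

-- part: H244/G2S/Deg
section
set_option linter.all false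
open scoped Cfsg.Agent.FastGrp

/-!
# `SL(3, E)` in the defining characteristic: self-dual absolutely irreducible representations of degree `2 ≤ n ≤ 11`,
`p ≠ 3`, have degree 8 (helper244, after H911.Ad.psl3_model)
-/

set_option autoImplicit false
set_option linter.unusedSectionVars false
set_option linter.unusedVariables false

namespace Cfsg.Agent.H244.G2S

open Matrix CoxeterSystem Cfsg.Agent.ChevalleyStructure.CoxeterGeom Cfsg.Agent.Tits.Roots Cfsg.Agent.Tits.Core
  Cfsg.Agent.Tits.Exchange Cfsg.Agent.Nodes.Reps Cfsg.Agent.Nodes.BNOf Cfsg.Agent.Nodes.StabComb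
  Cfsg.Agent.Nodes.Bruhat Cfsg.Agent.Nodes.OppDec Cfsg.Agent.Nodes.LeviDec Cfsg.Agent.KFacts.RgdOpp
  Cfsg.Agent.Omega.CR Cfsg.Agent.Omega.FOne.Lift.Sd Cfsg.Agent.Nodes.RootsA Cfsg.Agent.H911 Cfsg.Agent.H905.Md
  Cfsg.Agent.H911.Ad
open Cfsg Cfsg.Geo Cfsg.Agent.H915.LD
open Cfsg.Agent.H911.SLTwo (U Lo hh ww hh00 hh01 hh10 hh11)
open Cfsg.Agent.LieRecognition.BNCox (cA cA_apply)
open Cfsg.Agent.Nodes.RGDTypeA (Mono mem_T rgd)
open scoped MatrixGroups Matrix

variable {F : Type*} [Field F] [Finite F] {ι : Type} [Fintype ι] [DecidableEq ι]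
  {E : Type*} [Field E] [Finite E] (p : ℕ) [hp : Fact p.Prime] [hFp : CharP F p] [hEp : CharP E p]
include hp hFp hEp

/-- **The degree is 8.** -/
theorem deg_psl3 (h3 : (3 : F) ≠ 0) (φ : SpecialLinearGroup (Fin 3) E →* GL ι F)
    (hP : ActsAbsolutelyIrreducibly (matrixSet φ.range))
    (B : (ι → F) →ₗ[F] (ι → F) →ₗ[F] F)
    (hB : ∀ g x y, B ((φ g : Matrix ι ι F) *ᵥ x) ((φ g : Matrix ι ι F) *ᵥ y) = B x y)
    (hB0 : ∀ x, (∀ y, B x y = 0) → x = 0) (h2 : 2 ≤ Fintype.card ι) (hn : Fintype.card ι ≤ 11) :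
    Fintype.card ι = 8 := by
  have hφ : φ.range = φ.range := rfl
  have hne : Nonempty ι := Fintype.card_pos_iff.1 (by omega)
  haveI : Finite (cA 2).Group := finite_W (cA 2).toCoxeterSystem (isCartan 2)
  have R := rgd (cA 2).toCoxeterSystem (isCartan 2) (F := E) (p := p)
  have hG : GG (cA 2).toCoxeterSystem (isCartan 2) (Nodes.RGDTypeA.T (Fin 3) E) (Nodes.RGDTypeA.X E) = ⊤ :=
    gg_eq_top (Nodes.RGDTypeA.G1_eq_top _ _)
  have hirr := mrep_irr hφ hP hG
  obtain ⟨c, hc, hc0, χ, hχ⟩ := exists_chiF R hG slT_comm hφ hP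
  have hB' : ∀ g x y, B (lin (mrep φ) g x) (lin (mrep φ) g y) = B x y := by
    intro g x y
    rw [mrep_apply, mrep_apply]
    exact hB g x y
  have hfr : Module.finrank F (ι → F) = Fintype.card ι := Module.finrank_fintype_fun_eq_card F
  have hnt0 : Nontrivial (ι → F) := Module.nontrivial_of_finrank_pos (R := F) (by rw [hfr]; omega)
  obtain ⟨σ, hσ⟩ := exists_sigma3 p hirr hc hc0 hχ hB' hB0 (by omega) (by omega)
  have hJ := Jx_empty p hirr hc hc0 hχ hB' hB0 (by omega)
  have hnt : Nontrivial (Mo.M F) := ⟨⟨_, _, Mo.c₂_ne⟩⟩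
  obtain ⟨θ, hθ⟩ := iso_of_chi_J R (lin (mrep φ)) (Mo.ad σ) hirr (Mo.mod_irr σ p) hc hc0 (Mo.c₂_mem σ p) Mo.c₂_ne hχ
    (fun t ht => by rw [Mo.ad_T σ ht, hσ t ht]) (fun i => ⟨fun hi => (hJ i hi).elim, fun hi => (Mo.not_mem_Jx σ p i hi).elim⟩)
  have h8 := Mo.finrank_M (k := F) h3
  rw [← θ.finrank_eq, hfr] at h8
  exact h8

end Cfsg.Agent.H244.G2S
end

-- part: H244/G2S/Irr
section
set_option linter.all false
open scoped Cfsg.Agent.FastGrp

/-!
# The images of `SL(3, E)` in the automorphism group of the octonions, odd characteristic (helper244)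
-/

set_option autoImplicit false

namespace Cfsg.Agent.H244.G2S

open Module Matrix Cfsg.Lie Cfsg.Agent.H161.Oct
open Cfsg Cfsg.Geo
open Cfsg.Agent.H436 (Prim)

namespace SubQ

variable {F : Type*} [Field F] {ι : Type} [Fintype ι] [DecidableEq ι] (Q : SubQ F ι)

/-- the matrix representation -/
def mat : AutO F →* Matrix ι ι F :=
  ((LinearMap.toMatrixAlgEquiv' : ((ι → F) →ₗ[F] (ι → F)) ≃ₐ[F] Matrix ι ι F) :
    ((ι → F) →ₗ[F] (ι → F)) →* Matrix ι ι F).comp Q.rho

theorem mat_mulVec (g : AutO F) (y : ι → F) : Q.mat g *ᵥ y = Q.rho g y := by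
  change LinearMap.toMatrix' (Q.rho g) *ᵥ y = Q.rho g y
  rw [LinearMap.toMatrix'_mulVec]

/-- the representation -/
def gl : AutO F →* GL ι F := Q.mat.toHomUnits

theorem gl_mulVec (g : AutO F) (y : ι → F) : (Q.gl g : Matrix ι ι F) *ᵥ y = Q.prj ((g : V F ≃ₗ[F] V F) (Q.inc y)) :=
  Q.mat_mulVec g y

variable [Finite F] {A : Matrix.SpecialLinearGroup (Fin 3) F} {r : ℕ} (h : Tor A r)
  {G : Type*} [Group G] (φ : G →* AutO F) (hs : ∃ g, ((φ g : AutO F) : V F ≃ₗ[F] V F) = slM F A)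
  (hns : ¬ ∀ g, ∀ x ∈ EE F, ((φ g : AutO F) : V F ≃ₗ[F] V F) x ∈ EE F)
include h hs hns

/-- the image -/
abbrev img (φ : G →* AutO F) : Subgroup (V F ≃ₗ[F] V F) := φ.range.map (AutO F).subtype

omit [Finite F] h hs hns in
theorem img_le : img φ ≤ AutO F := by
  rintro _ ⟨g, -, rfl⟩
  exact g.2

omit [Finite F] h hs hns in
theorem mem_img (g : G) : ((φ g : AutO F) : V F ≃ₗ[F] V F) ∈ img φ := ⟨φ g, ⟨g, rfl⟩, rfl⟩

omit [Finite F] h hs hns in
theorem exists_of_mem_img {x : V F ≃ₗ[F] V F} (hx : x ∈ img φ) : ∃ g, ((φ g : AutO F) : V F ≃ₗ[F] V F) = x := by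
  obtain ⟨_, ⟨g, rfl⟩, rfl⟩ := hx
  exact ⟨g, rfl⟩

/-- **absolute irreducibility from the scalar commutant** -/
theorem abs_irr (hsc : ∀ T : Module.End F (ι → F), (∀ g ∈ img φ, ∀ y, T (Q.prj (g (Q.inc y))) = Q.prj (g (Q.inc (T y)))) →
    ∃ c : F, ∀ y, T y = c • y) : ActsAbsolutelyIrreducibly (matrixSet (Q.gl.comp φ).range) := by
  have hs' : slM F A ∈ img φ := by
    obtain ⟨g, hg⟩ := hs
    rw [← hg]
    exact mem_img φ g
  have hns' : ¬ Stb (img φ) (EE F) := fun hh => hns fun g x hx => hh _ (mem_img φ g) x hx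
  refine ⟨fun W hW => ?_, fun M hM => ?_⟩
  · apply Q.irr (img_le φ) h hs' hns'
    intro x hx y hy
    obtain ⟨g, rfl⟩ := exists_of_mem_img φ hx
    have h1 := hW (Q.gl (φ g)) ⟨Q.gl (φ g), ⟨g, rfl⟩, rfl⟩
    have h2 := h1 (Submodule.mem_map_of_mem hy)
    rw [Matrix.toLin'_apply, gl_mulVec] at h2
    exact h2
  · obtain ⟨c, hc⟩ := hsc (Matrix.toLin' M) (by
      intro x hx y
      obtain ⟨g, rfl⟩ := exists_of_mem_img φ hx
      have h1 := hM (Q.gl (φ g)) ⟨Q.gl (φ g), ⟨g, rfl⟩, rfl⟩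
      have h2 := congrArg (fun N : Matrix ι ι F => N *ᵥ y) h1
      simp only [← Matrix.mulVec_mulVec, gl_mulVec] at h2
      rw [Matrix.toLin'_apply, Matrix.toLin'_apply]
      exact h2)
    refine ⟨c, ?_⟩
    apply Matrix.toLin'.injective
    apply LinearMap.ext
    intro y
    rw [hc y, map_smul, Matrix.toLin'_one]
    rfl

end SubQ

section

variable {F : Type*} [Field F] [Finite F] {E : Type*} [Field E] [Finite E] (p : ℕ) [hp : Fact p.Prime]
  [hFp : CharP F p] [hEp : CharP E p] {ι : Type} [Fintype ι] [DecidableEq ι] (Q : SubQ F ι)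
  {A : Matrix.SpecialLinearGroup (Fin 3) F} {r : ℕ} (h : Tor A r)
  (φ : Matrix.SpecialLinearGroup (Fin 3) E →* AutO F) (hs : ∃ g, ((φ g : AutO F) : V F ≃ₗ[F] V F) = slM F A)
  (hns : ¬ ∀ g, ∀ x ∈ EE F, ((φ g : AutO F) : V F ≃ₗ[F] V F) x ∈ EE F)
include hp hFp hEp h hs hns

/-- the scalar commutant gives degree eight -/
theorem card_eq_eight (h3 : (3 : F) ≠ 0) (h2 : 2 ≤ Fintype.card ι) (hn : Fintype.card ι ≤ 11)
    (hsc : ∀ T : Module.End F (ι → F), (∀ g ∈ SubQ.img φ, ∀ y, T (Q.prj (g (Q.inc y))) = Q.prj (g (Q.inc (T y)))) →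
    ∃ c : F, ∀ y, T y = c • y) : Fintype.card ι = 8 := by
  apply deg_psl3 p h3 (Q.gl.comp φ) (Q.abs_irr h φ hs hns hsc) Q.form ?_ Q.form_nondeg h2 hn
  intro g x y
  have h1 : ∀ z, ((Q.gl.comp φ) g : Matrix ι ι F) *ᵥ z = Q.rho (φ g) z := fun z => Q.mat_mulVec (φ g) z
  rw [h1, h1]
  exact Q.form_rho (φ g) x y

/-- **odd characteristic** -/
theorem false_of_odd (h3 : (3 : F) ≠ 0) (h2 : (2 : F) ≠ 0) : False := by
  have hs' : slM F A ∈ SubQ.img φ := by
    obtain ⟨g, hg⟩ := hs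
    rw [← hg]
    exact SubQ.mem_img φ g
  have hns' : ¬ Stb (SubQ.img φ) (EE F) := fun hh => hns fun g x hx => hh _ (SubQ.mem_img φ g) x hx
  have h8 := card_eq_eight p (sub7 h2) h φ hs hns h3 (by simp) (by simp) (by
    intro T hT
    set Q := sub7 h2
    have hinj : ∀ x : V F, tr x = 0 → Q.inc (Q.prj x) = x := fun x hx => inc_prj7 hx
    have hl : slM F A (l0 F) = l0 F := slM_EE A (by rw [mem_EE]; simp [l0])
    have htl : tr (l0 F) = 0 := by simp [tr, l0]
    have hv0 : Q.prj (l0 F) ≠ 0 := by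
      intro h0
      have h1 := hinj _ htl
      rw [h0, map_zero] at h1
      have h2 := congrFun h1 0
      simp [l0] at h2
    have h1 : slM F A (Q.inc (T (Q.prj (l0 F)))) = Q.inc (T (Q.prj (l0 F))) := by
      have h2 := hT _ hs' (Q.prj (l0 F))
      rw [hinj _ htl, hl] at h2
      have h4 := congrArg Q.inc h2
      rw [hinj _ (by rw [map_tr (slM_mem A), Q.tr_inc])] at h4
      exact h4.symm
    have h5 := h.mem_EE h1
    have h6 : Q.inc (T (Q.prj (l0 F))) = (Q.inc (T (Q.prj (l0 F))) 0) • l0 F := by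
      rw [← pE_eq_l0 (Q.tr_inc _), pE_of_mem h5]
    have h7 := congrArg Q.prj h6
    rw [Q.prj_inc, map_smul] at h7
    exact ⟨_, fun y => Q.scalar_of_eig (SubQ.img_le φ) h hs' hns' hT hv0 h7 y⟩)
  simp at h8

end

end Cfsg.Agent.H244.G2S
end

-- part: H244/G2S/Even
section
prune_inst 0x400070000000080000000000002000000002000040000000040200080060004420010c00040402402c0010000000001000000020000000000800000000208000000000000000000001000000000000000000000000000000000000000000000000000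
set_option linter.all false
open scoped Cfsg.Agent.FastGrp

/-!
# The images of `SL(3, E)` in the automorphism group of the octonions, characteristic two (helper244)
-/

set_option autoImplicit false

namespace Cfsg.Agent.H244.G2S

open Module Matrix Cfsg.Lie Cfsg.Agent.H161.Oct
open Cfsg Cfsg.Geo
open Cfsg.Agent.H436 (Prim)

section six

variable {F : Type*} [Field F] (h2 : (2 : F) = 0)

theorem inc_prj_of_W6 {x : V F} (hx : x ∈ W6 F) : inc6 F (prj6 F x) = x := by
  obtain ⟨h1, h2⟩ := hx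
  rw [inc6_apply, prj6_apply]
  apply ext8 <;> simp [h1, h2]

theorem inc6_mem (y : Fin 6 → F) : inc6 F y ∈ W6 F := by
  rw [mem_W6, inc6_apply]
  simp

theorem prj_inc6 (y : Fin 6 → F) : prj6 F (inc6 F y) = y := by
  rw [inc6_apply, prj6_apply]
  ext i; fin_cases i <;> rfl

theorem slM_mem_W6 (A : Matrix.SpecialLinearGroup (Fin 3) F) {x : V F} (hx : x ∈ W6 F) : slM F A x ∈ W6 F := by
  rw [← pE_eq_zero, pE_slM, pE_eq_zero]
  exact hx

variable [Finite F] {A : Matrix.SpecialLinearGroup (Fin 3) F} {r : ℕ} (h : Tor A r)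
include h

/-- an endomorphism commuting with the torus element stabilises the isotropic subspace -/
theorem stab_WA {T : Module.End F (Fin 6 → F)}
    (hT : ∀ y, T (prj6 F (slM F A (inc6 F y))) = prj6 F (slM F A (inc6 F (T y)))) (a : Fin 3 → F) :
    T (prj6 F (iA a)) = prj6 F (iA (pA F (inc6 F (T (prj6 F (iA a)))))) := by
  let φ : (Fin 3 → F) →ₗ[F] (Fin 3 → F) := pB F ∘ₗ inc6 F ∘ₗ T ∘ₗ prj6 F ∘ₗ iA
  have hφa : ∀ a, φ a = pB F (inc6 F (T (prj6 F (iA a)))) := fun a => rfl
  have hφ : ∀ a, φ (A.1 *ᵥ a) = cofM A *ᵥ φ a := by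
    intro a
    rw [hφa, ← slM_iA]
    have h1 := hT (prj6 F (iA a))
    rw [inc_prj_of_W6 (iA_mem_W6 a)] at h1
    rw [h1, inc_prj_of_W6 (slM_mem_W6 A (inc6_mem _)), pB_slM]
    rfl
  have hJ : LinearMap.toMatrix' φ = 0 := by
    apply no_form A.2 h.fixA h.irrA
    have h1 : LinearMap.toMatrix' φ * A.1 = cofM A * LinearMap.toMatrix' φ := by
      apply Matrix.toLin'.injective
      apply LinearMap.ext
      intro a
      rw [Matrix.toLin'_mul, Matrix.toLin'_mul, LinearMap.comp_apply, LinearMap.comp_apply,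
        Matrix.toLin'_toMatrix', Matrix.toLin'_apply, Matrix.toLin'_apply]
      exact hφ a
    rw [Matrix.mul_assoc, h1, ← Matrix.mul_assoc, cofM_mul, Matrix.one_mul]
  have hφ0 : φ = 0 := by
    apply LinearMap.toMatrix'.injective
    rw [hJ, map_zero]
  have h1 : pB F (inc6 F (T (prj6 F (iA a)))) = 0 := by rw [← hφa, hφ0]; rfl
  have h2 := eq_of_W6 (inc6_mem (T (prj6 F (iA a))))
  rw [h1, map_zero, add_zero] at h2
  conv_lhs => rw [← prj_inc6 (T (prj6 F (iA a))), h2]

end six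

section

variable {F : Type*} [Field F] [Finite F] (h2 : (2 : F) = 0)
  {A : Matrix.SpecialLinearGroup (Fin 3) F} {r : ℕ} (h : Tor A r) {K : Subgroup (V F ≃ₗ[F] V F)} (hK : K ≤ AutO F)
  (hs : slM F A ∈ K) (hns : ¬ Stb K (EE F)) {T : Module.End F (Fin 6 → F)}
  (hT : ∀ g ∈ K, ∀ y, T (prj6 F (g (inc6 F y))) = prj6 F (g (inc6 F (T y))))
include h2 h hK hs hns hT

/-- **the commutant is scalar, or the dimensions of the invariant subspaces are divisible by three** -/
theorem scalar_or : (∃ c : F, ∀ y, T y = c • y) ∨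
    ∀ X : Submodule F (Fin 6 → F), (∀ x ∈ X, T x ∈ X) → 3 ∣ finrank F X := by
  classical
  have hsc : ∀ {c : F} {v : Fin 6 → F}, v ≠ 0 → T v = c • v → ∀ y, T y = c • y :=
    fun hv hc y => (sub6 h2).scalar_of_eig hK h hs hns (T := T) hT hv hc y
  let ψ : Module.End F (Fin 3 → F) := pA F ∘ₗ inc6 F ∘ₗ T ∘ₗ prj6 F ∘ₗ iA
  have hψ : ∀ a, T (prj6 F (iA a)) = prj6 F (iA (ψ a)) := fun a => stab_WA h (hT _ hs) a
  have hinj : ∀ a : Fin 3 → F, a ≠ 0 → prj6 F (iA a) ≠ 0 := by
    intro a ha h0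
    apply ha
    have h1 := inc_prj_of_W6 (iA_mem_W6 a)
    rw [h0, map_zero] at h1
    rw [← pA_iA a, ← h1, map_zero]
  let f := ψ.charpoly
  have hfd : f.natDegree = 3 := by
    rw [LinearMap.charpoly_natDegree]
    simp
  have hfm : f.Monic := LinearMap.charpoly_monic ψ
  by_cases hirr : Irreducible f
  · right
    intro X hX
    rw [← hfd]
    apply natDegree_dvd_finrank' hirr T ?_ X hX
    have hψ' : ∀ (g : Polynomial F) a, Polynomial.aeval T g (prj6 F (iA a)) = prj6 F (iA (Polynomial.aeval ψ g a)) := by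
      intro g
      induction g using Polynomial.induction_on' with
      | add a b ha hb =>
        intro v
        rw [map_add, map_add, LinearMap.add_apply, LinearMap.add_apply, map_add, map_add, ha, hb]
      | monomial n c =>
        intro v
        rw [Polynomial.aeval_monomial, Polynomial.aeval_monomial, Module.End.mul_apply, Module.End.mul_apply,
          Module.algebraMap_end_apply, Module.algebraMap_end_apply, map_smul, map_smul]
        congr 1
        induction n generalizing v with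
        | zero => rfl
        | succ n ih => rw [pow_succ, pow_succ, Module.End.mul_apply, Module.End.mul_apply, hψ, ih]
    refine (sub6 h2).eq_zero_of_ker hK h hs hns ?_ (hinj (Pi.single 0 1) ?_) ?_
    · intro g hg y
      exact aeval_comm (T := T) (g := prj6 F ∘ₗ (g : V F →ₗ[F] V F) ∘ₗ inc6 F) (fun y => hT g hg y) f y
    · intro h0
      have := congrFun h0 0
      simp at this
    · rw [hψ', LinearMap.aeval_self_charpoly]
      simp
  · left
    rw [hfm.irreducible_iff_roots_eq_zero_of_degree_le_three (by rw [hfd]; norm_num) (by rw [hfd])] at hirr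
    obtain ⟨c, hc⟩ := Multiset.exists_mem_of_ne_zero hirr
    have hc' : f.IsRoot c := (Polynomial.mem_roots hfm.ne_zero).1 hc
    have h3 : Module.End.HasEigenvalue ψ c := (Module.End.hasEigenvalue_iff_isRoot_charpoly ψ c).2 hc'
    obtain ⟨v, hv⟩ := h3.exists_hasEigenvector
    have h4 : ψ v = c • v := hv.apply_eq_smul
    exact ⟨c, fun y => hsc (hinj v hv.2) (by rw [hψ, h4, map_smul, map_smul]) y⟩

end

/-! ### three elements of `SL(3, E)` -/

section mats

variable (E : Type*) [Field E]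

/-- the transvections -/
def ta : Matrix.SpecialLinearGroup (Fin 3) E := ⟨!![1, 1, 0; 0, 1, 0; 0, 0, 1], by simp [Matrix.det_fin_three]⟩
def tb : Matrix.SpecialLinearGroup (Fin 3) E := ⟨!![1, 0, 0; 0, 1, 1; 0, 0, 1], by simp [Matrix.det_fin_three]⟩
def tz : Matrix.SpecialLinearGroup (Fin 3) E := ⟨!![1, 0, 1; 0, 1, 0; 0, 0, 1], by simp [Matrix.det_fin_three]⟩
def tc : Matrix.SpecialLinearGroup (Fin 3) E := ⟨!![1, 0, 0; 0, 1, 0; 1, 0, 1], by simp [Matrix.det_fin_three]⟩

variable {E}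

theorem ta_coe : (ta E).1 = !![1, 1, 0; 0, 1, 0; 0, 0, 1] := rfl
theorem tb_coe : (tb E).1 = !![1, 0, 0; 0, 1, 1; 0, 0, 1] := rfl
theorem tz_coe : (tz E).1 = !![1, 0, 1; 0, 1, 0; 0, 0, 1] := rfl
theorem tc_coe : (tc E).1 = !![1, 0, 0; 0, 1, 0; 1, 0, 1] := rfl

theorem ta_mul_tb : ta E * tb E = tb E * ta E * tz E := by
  apply Subtype.ext
  change (ta E).1 * (tb E).1 = (tb E).1 * (ta E).1 * (tz E).1
  rw [ta_coe, tb_coe, tz_coe]
  ext i j
  (revert i j; simp only [Matrix.mul_apply, Fin.sum_univ_three, _root_.Fin.forall_fin_succ, _root_.Matrix.of_apply, _root_.Matrix.cons_val', _root_.Matrix.cons_val_fin_one, Fin.isValue, _root_.Matrix.cons_val_zero, _root_.Matrix.cons_val_one, _root_.Matrix.cons_val, _root_.Matrix.cons_mul, _root_.Nat.succ_eq_add_one, Nat.reduceAdd, _root_.Matrix.vecMul_cons, _root_.Matrix.head_cons, _root_.one_smul, _root_.Matrix.tail_cons, _root_.zero_smul, _root_.Matrix.empty_vecMul, _root_.add_zero, _root_.Matrix.add_cons, _root_.zero_add,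 _root_.Matrix.empty_add_empty, _root_.Matrix.empty_mul, _root_.Equiv.symm_apply_apply, _root_.mul_one, _root_.MulZeroClass.mul_zero, _root_.Matrix.cons_val_succ, _root_.forall_const, _root_.true_and, _root_.implies_true, _root_.and_self])

theorem ta_mul_tz : ta E * tz E = tz E * ta E := by
  apply Subtype.ext
  change (ta E).1 * (tz E).1 = (tz E).1 * (ta E).1
  rw [ta_coe, tz_coe]
  ext i j
  (revert i j; simp only [Matrix.mul_apply, Fin.sum_univ_three, _root_.Fin.forall_fin_succ, _root_.Matrix.of_apply, _root_.Matrix.cons_val', _root_.Matrix.cons_val_fin_one, Fin.isValue, _root_.Matrix.cons_val_zero, _root_.Matrix.cons_val_one, _root_.Matrix.cons_val, _root_.mul_one, _root_.MulZeroClass.mul_zero, _root_.add_zero, _root_.Matrix.cons_val_succ, _root_.zero_add, _root_.forall_const, _root_.true_and, _root_.and_self, _root_.right_eq_add, _root_.add_eq_right, _root_.implies_true])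

theorem tb_mul_tz : tb E * tz E = tz E * tb E := by
  apply Subtype.ext
  change (tb E).1 * (tz E).1 = (tz E).1 * (tb E).1
  rw [tb_coe, tz_coe]
  ext i j
  (revert i j; simp only [Matrix.mul_apply, Fin.sum_univ_three, _root_.Fin.forall_fin_succ, _root_.Matrix.of_apply, _root_.Matrix.cons_val', _root_.Matrix.cons_val_fin_one, Fin.isValue, _root_.Matrix.cons_val_zero, _root_.Matrix.cons_val_one, _root_.Matrix.cons_val, _root_.mul_one, _root_.MulZeroClass.mul_zero, _root_.add_zero, _root_.Matrix.cons_val_succ, _root_.zero_add, _root_.forall_const, _root_.true_and, _root_.implies_true, _root_.and_self])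

theorem ta_sq (h2 : (2 : E) = 0) : ta E * ta E = 1 := by
  have h3 : (1 : E) + 1 = 0 := by rw [← h2]; norm_num
  apply Subtype.ext
  change (ta E).1 * (ta E).1 = 1
  rw [ta_coe]
  ext i j
  (revert i j; simp only [Matrix.mul_apply, Fin.sum_univ_three, h3, _root_.Fin.forall_fin_succ, _root_.Matrix.of_apply, _root_.Matrix.cons_val', _root_.Matrix.cons_val_fin_one, Fin.isValue, _root_.Matrix.cons_val_zero, _root_.Matrix.cons_val_one, _root_.Matrix.cons_val, _root_.mul_one, _root_.MulZeroClass.mul_zero, _root_.add_zero, _root_.Matrix.cons_val_succ, _root_.zero_add, _root_.IsEmpty.forall_iff, _root_.and_true, _root_.Matrix.one_apply_eq, Nat.reduceAdd, _root_.Fin.succ_zero_eq_one, _root_.ne_eq, _root_.zero_ne_one, _root_.not_false_eq_true, _root_.Matrix.one_apply_ne, _root_.Fin.succ_one_eq_two, Fin.reduceEq, _root_.and_self, _root_.Fin.succ_ne_zero, _root_.true_and])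

theorem tb_sq (h2 : (2 : E) = 0) : tb E * tb E = 1 := by
  have h3 : (1 : E) + 1 = 0 := by rw [← h2]; norm_num
  apply Subtype.ext
  change (tb E).1 * (tb E).1 = 1
  rw [tb_coe]
  ext i j
  (revert i j; simp only [Matrix.mul_apply, Fin.sum_univ_three, h3, _root_.Fin.forall_fin_succ, _root_.Matrix.of_apply, _root_.Matrix.cons_val', _root_.Matrix.cons_val_fin_one, Fin.isValue, _root_.Matrix.cons_val_zero, _root_.Matrix.cons_val_one, _root_.Matrix.cons_val, _root_.mul_one, _root_.MulZeroClass.mul_zero, _root_.add_zero, _root_.Matrix.cons_val_succ, _root_.zero_add, _root_.IsEmpty.forall_iff, _root_.and_true, _root_.Matrix.one_apply_eq, Nat.reduceAdd, _root_.Fin.succ_zero_eq_one, _root_.ne_eq, _root_.zero_ne_one, _root_.not_false_eq_true, _root_.Matrix.one_apply_ne, _root_.Fin.succ_one_eq_two, Fin.reduceEq, _root_.and_self, _root_.Fin.succ_ne_zero, _root_.true_and])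

theorem tz_sq (h2 : (2 : E) = 0) : tz E * tz E = 1 := by
  have h3 : (1 : E) + 1 = 0 := by rw [← h2]; norm_num
  apply Subtype.ext
  change (tz E).1 * (tz E).1 = 1
  rw [tz_coe]
  ext i j
  (revert i j; simp only [Matrix.mul_apply, Fin.sum_univ_three, h3, _root_.Fin.forall_fin_succ, _root_.Matrix.of_apply, _root_.Matrix.cons_val', _root_.Matrix.cons_val_fin_one, Fin.isValue, _root_.Matrix.cons_val_zero, _root_.Matrix.cons_val_one, _root_.Matrix.cons_val, _root_.mul_one, _root_.MulZeroClass.mul_zero, _root_.add_zero, _root_.Matrix.cons_val_succ, _root_.zero_add, _root_.IsEmpty.forall_iff, _root_.and_true, _root_.Matrix.one_apply_eq, Nat.reduceAdd, _root_.Fin.succ_zero_eq_one, _root_.ne_eq, _root_.zero_ne_one, _root_.not_false_eq_true, _root_.Matrix.one_apply_ne, _root_.Fin.succ_one_eq_two, Fin.reduceEq, _root_.and_self, _root_.Fin.succ_ne_zero, _root_.true_and])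

theorem tz_not_mem : tz E ∉ Subgroup.center (Matrix.SpecialLinearGroup (Fin 3) E) := by
  intro h
  have h1 := Subgroup.mem_center_iff.1 h (tc E)
  have h2 : ((tc E).1 * (tz E).1) 0 0 = ((tz E).1 * (tc E).1) 0 0 :=
    congrArg (fun g : Matrix.SpecialLinearGroup (Fin 3) E => g.1 0 0) h1
  rw [tc_coe, tz_coe] at h2
  simp [Matrix.mul_apply, Fin.sum_univ_three] at h2

theorem tz_ne : tz E ≠ 1 := by
  intro h
  exact tz_not_mem (by rw [h]; exact Subgroup.one_mem _)

theorem ta_not_mem : ta E ∉ Subgroup.center (Matrix.SpecialLinearGroup (Fin 3) E) := by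
  intro h
  have h1 := Subgroup.mem_center_iff.1 h (tb E)
  have h2 := @ta_mul_tb E _
  rw [h1] at h2
  exact tz_ne (mul_left_cancel (a := ta E * tb E) (by rw [mul_one]; exact h2.symm))

theorem tb_not_mem : tb E ∉ Subgroup.center (Matrix.SpecialLinearGroup (Fin 3) E) := by
  intro h
  have h1 := Subgroup.mem_center_iff.1 h (ta E)
  have h2 := @ta_mul_tb E _
  rw [h1] at h2
  exact tz_ne (mul_left_cancel (a := tb E * ta E) (by rw [mul_one]; exact h2.symm))

end mats

section

variable {F : Type*} [Field F] [Finite F] {E : Type*} [Field E] [Finite E] [hFp : CharP F 2] [hEp : CharP E 2]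
  {A : Matrix.SpecialLinearGroup (Fin 3) F} {r : ℕ} (h : Tor A r)
  (φ : Matrix.SpecialLinearGroup (Fin 3) E →* AutO F) (hs : ∃ g, ((φ g : AutO F) : V F ≃ₗ[F] V F) = slM F A)
  (hns : ¬ ∀ g, ∀ x ∈ EE F, ((φ g : AutO F) : V F ≃ₗ[F] V F) x ∈ EE F)
include hFp hEp h hs hns

/-- **characteristic two** -/
theorem false_of_even [IsSimpleGroup φ.range]
    (hker : φ.ker ≤ Subgroup.center (Matrix.SpecialLinearGroup (Fin 3) E)) : False := by
  have h2 : (2 : F) = 0 := by exact_mod_cast CharP.cast_eq_zero F 2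
  have h2E : (2 : E) = 0 := by exact_mod_cast CharP.cast_eq_zero E 2
  have h3 : (3 : F) ≠ 0 := by
    have h4 : (3 : F) = 1 := by linear_combination h2
    rw [h4]
    exact one_ne_zero
  have hs' : slM F A ∈ SubQ.img φ := by
    obtain ⟨g, hg⟩ := hs
    rw [← hg]
    exact SubQ.mem_img φ g
  have hns' : ¬ Stb (SubQ.img φ) (EE F) := fun hh => hns fun g x hx => hh _ (SubQ.mem_img φ g) x hx
  set Q := sub6 h2
  have : Fact (Nat.Prime 2) := ⟨Nat.prime_two⟩
  have h8 := card_eq_eight 2 Q h φ hs hns h3 (by simp) (by simp) (by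
    intro T hT
    refine (scalar_or h2 h (SubQ.img_le φ) hs' hns' hT).resolve_right fun hdvd => ?_
    -- the representation is faithful modulo the centre
    let ρ : Matrix.SpecialLinearGroup (Fin 3) E →* Module.End F (Fin 6 → F) := Q.rho.comp φ
    have hρ : ∀ g, ρ g = 1 → g ∈ Subgroup.center (Matrix.SpecialLinearGroup (Fin 3) E) := by
      intro g hg
      apply hker
      have hN : (ρ.ker.map φ.rangeRestrict).Normal :=
        Subgroup.Normal.map (MonoidHom.normal_ker ρ) _ φ.rangeRestrict_surjective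
      rcases hN.eq_bot_or_eq_top with h0 | h0
      · have h4 : φ.rangeRestrict g ∈ ρ.ker.map φ.rangeRestrict := ⟨g, hg, rfl⟩
        rw [h0, Subgroup.mem_bot] at h4
        exact MonoidHom.mem_ker.2 (congrArg Subtype.val h4)
      · exfalso
        obtain ⟨g₀, hg₀⟩ := hs
        have h4 : φ.rangeRestrict g₀ ∈ ρ.ker.map φ.rangeRestrict := by rw [h0]; trivial
        obtain ⟨k, hk, hk'⟩ := h4
        have h5 : φ k = φ g₀ := congrArg Subtype.val hk'
        have h6 : Q.rho (φ g₀) = 1 := by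
          rw [← h5]
          exact hk
        have h7 : ∀ v : Fin 3 → F, A.1 *ᵥ v = v := by
          intro v
          have h8 : Q.rho (φ g₀) (prj6 F (iA v)) = prj6 F (iA v) := by rw [h6]; rfl
          rw [SubQ.rho_apply, hg₀] at h8
          change prj6 F (slM F A (inc6 F (prj6 F (iA v)))) = prj6 F (iA v) at h8
          rw [inc_prj_of_W6 (iA_mem_W6 v)] at h8
          have h9 := congrArg (inc6 F) h8
          rw [inc_prj_of_W6 (iA_mem_W6 v), inc_prj_of_W6 (slM_mem_W6 A (iA_mem_W6 v)), slM_iA] at h9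
          exact iA_inj h9
        have h8 := h.fixA (Pi.single 0 1) (h7 _)
        have h9 := congrFun h8 0
        simp at h9
    have hTρ : ∀ g, T * ρ g = ρ g * T := by
      intro g
      apply LinearMap.ext
      intro y
      exact hT _ (SubQ.mem_img φ g) y
    have h4 := comm_of_chain (F := F) (V := Fin 6 → F) (by simp) hdvd h2 (a := ρ (ta E)) (b := ρ (tb E)) (z := ρ (tz E))
      (by rw [← map_mul, ta_sq h2E, map_one]) (by rw [← map_mul, tb_sq h2E, map_one])
      (by rw [← map_mul, tz_sq h2E, map_one]) (fun h0 => ta_not_mem (hρ _ h0)) (fun h0 => tb_not_mem (hρ _ h0))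
      (fun h0 => tz_not_mem (hρ _ h0)) (by rw [← map_mul, ta_mul_tz, map_mul]) (by rw [← map_mul, tb_mul_tz, map_mul])
      (hTρ _) (hTρ _) (hTρ _)
    apply tz_not_mem (hρ (tz E) ?_)
    rw [← map_mul, ta_mul_tb, map_mul, map_mul] at h4
    have h5 : ρ (tb E * ta E)⁻¹ * (ρ (tb E) * ρ (ta E) * ρ (tz E)) = ρ (tb E * ta E)⁻¹ * (ρ (tb E) * ρ (ta E)) := by
      rw [h4]
    rw [← map_mul ρ (tb E) (ta E), ← mul_assoc, ← map_mul, inv_mul_cancel, map_one, one_mul] at h5
    exact h5)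
  simp at h8

end

/-- **the second case, the irreducible part** -/
theorem stb_of_hom {F : Type*} [Field F] [Finite F] {E : Type*} [Field E] [Finite E] (p : ℕ) [hp : Fact p.Prime]
    [hFp : CharP F p] [hEp : CharP E p] (h3 : (3 : F) ≠ 0) {A : Matrix.SpecialLinearGroup (Fin 3) F} {r : ℕ}
    (h : Tor A r) (φ : Matrix.SpecialLinearGroup (Fin 3) E →* AutO F)
    (hs : ∃ g, ((φ g : AutO F) : V F ≃ₗ[F] V F) = slM F A) [IsSimpleGroup φ.range]
    (hker : φ.ker ≤ Subgroup.center (Matrix.SpecialLinearGroup (Fin 3) E)) (g : Matrix.SpecialLinearGroup (Fin 3) E)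
    (x : V F) (hx : x ∈ EE F) : ((φ g : AutO F) : V F ≃ₗ[F] V F) x ∈ EE F := by
  by_contra hns
  have hns' : ¬ ∀ g, ∀ x ∈ EE F, ((φ g : AutO F) : V F ≃ₗ[F] V F) x ∈ EE F := fun hh => hns (hh g x hx)
  by_cases h2 : (2 : F) = 0
  · have h4 : p = 2 := by
      have h5 : ((2 : ℕ) : F) = 0 := by exact_mod_cast h2
      rw [CharP.cast_eq_zero_iff F p] at h5
      exact (Nat.prime_dvd_prime_iff_eq hp.out Nat.prime_two).1 h5
    subst h4
    exact false_of_even h φ hs hns' hker
  · exact false_of_odd p h φ hs hns' h3 h2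

end Cfsg.Agent.H244.G2S
end

-- part: H244/G2S/Main
section
prune_inst 0x6000400000000000180080012020044c0004900023000109000a400200432120012700048012040346a2610000400000000059000000002000020040000020800112062074ac00100011001804000000000000000000000000000000000000000000000
set_option linter.all false
open scoped Cfsg.Agent.FastGrp

/-!
# 3/2-generation of `G₂(q)`, `3 ∤ q`, from the overgroups of the torus element of order `q² + q + 1` (helper244)
-/

set_option autoImplicit false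

namespace Cfsg.Agent.H244.G2S

open Module Matrix Cfsg.Lie Cfsg.Agent.H161.Oct Subgroup
open Cfsg Cfsg.Geo Cfsg.Agent.OrdDiv
open Cfsg.Agent.H436 (Prim)
open Cfsg.Agent.H424.Spr (Spr spr_of_one)

/-- the overgroups of the torus element -/
def Over3 {T : Type*} [Group T] (q : ℕ) (x : T) : Prop :=
  ∀ H : Subgroup T, x ∈ H → H ≠ ⊤ → (∃ y ∈ zpowers x, y ≠ 1 ∧ H ≤ normalizer (zpowers y : Set T)) ∨
    ∃ S : Subgroup H, S.Normal ∧ IsSimpleGroup S ∧ ¬ IsMulCommutative S ∧ (∃ r, Prim q 3 r ∧ ¬ r ∣ S.index) ∧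
      Real (.psl 3 q) S

/-- an element of order `r` -/
theorem exists_tor {F : Type*} [Field F] [Finite F] {A : Matrix.SpecialLinearGroup (Fin 3) F}
    (hA : orderOf A = Nat.card F ^ 2 + Nat.card F + 1) {r : ℕ} (hr : Prim (Nat.card F) 3 r) :
    ∃ n, Tor (A ^ n) r ∧ orderOf (A ^ n) = r := by
  set q := Nat.card F with hq
  have hq2 : 2 ≤ q := by
    have : Fintype F := Fintype.ofFinite F
    rw [hq, Nat.card_eq_fintype_card]
    exact Fintype.one_lt_card
  have h1 : r ∣ q ^ 2 + q + 1 := by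
    have h2 := hr.dvd (m := 3) dvd_rfl
    have h3 : ∀ q : ℕ, 2 ≤ q → q ^ 3 - 1 = (q ^ 2 + q + 1) * (q - 1) := by
      intro q hq2
      obtain ⟨m, rfl⟩ : ∃ m, q = m + 1 := ⟨q - 1, by omega⟩
      rw [Nat.add_sub_cancel]
      apply Nat.sub_eq_of_eq_add
      ring
    rw [h3 q hq2] at h2
    refine (hr.prime.dvd_mul.1 h2).resolve_right ?_
    have h4 := hr.not_dvd_sub (m := 1) (by norm_num)
    rwa [pow_one] at h4
  have hn : q ^ 2 + q + 1 ≠ 0 := by omega
  have h2 : orderOf (A ^ ((q ^ 2 + q + 1) / r)) = r := by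
    rw [orderOf_pow_of_dvd, hA, Nat.div_div_self h1 hn]
    · exact (Nat.div_pos (Nat.le_of_dvd (by omega) h1) hr.prime.pos).ne'
    · rw [hA]
      exact Nat.div_dvd_of_dvd h1
  refine ⟨(q ^ 2 + q + 1) / r, ⟨hr, ?_, ?_⟩, h2⟩
  · have h4 := pow_orderOf_eq_one (A ^ ((q ^ 2 + q + 1) / r))
    rwa [h2] at h4
  · intro h3
    rw [h3, orderOf_one] at h2
    exact hr.prime.one_lt.ne h2

section

variable {T : Type*} [Group T] {F : Type*} [Field F] [Finite F] (e : T ≃* AutO F)

/-- the map to the linear group -/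
def emb : T →* (V F ≃ₗ[F] V F) := (AutO F).subtype.comp e.toMonoidHom

omit [Finite F] in
theorem emb_inj : Function.Injective (emb e) := fun x y hxy => e.injective (Subtype.ext hxy)

omit [Finite F] in
theorem emb_mem (x : T) : emb e x ∈ AutO F := (e x).2

omit [Finite F] in
theorem map_le (H : Subgroup T) : H.map (emb e) ≤ AutO F := by
  rintro _ ⟨x, -, rfl⟩
  exact emb_mem e x

/-- the subgroup -/
def MT : Subgroup T := (MM F).comap (emb e)

omit [Finite F] in
theorem MT_ne_top : MT e ≠ ⊤ := by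
  intro h
  apply not_AutO_le (F := F)
  intro g hg
  obtain ⟨x, hx⟩ := e.surjective ⟨g, hg⟩
  have h1 : x ∈ MT e := by rw [h]; trivial
  have h2 : emb e x = g := congrArg Subtype.val hx
  rw [← h2]
  exact h1

omit [Finite F] in
theorem le_MT {H : Subgroup T} : H ≤ MT e ↔ Stb (H.map (emb e)) (EE F) := by
  rw [← le_MM, MT, ← Subgroup.map_le_iff_le_comap]

variable {p : ℕ} [hp : Fact p.Prime] [hFp : CharP F p] (h3 : (3 : F) ≠ 0)
  {A : Matrix.SpecialLinearGroup (Fin 3) F} (hA : orderOf A = Nat.card F ^ 2 + Nat.card F + 1)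
  {x : T} (hx : emb e x = slM F A)
include hA hx

omit hFp hp in
theorem case_a {H : Subgroup T} {y : T} (hy : y ∈ zpowers x) (hy1 : y ≠ 1)
    (hH : H ≤ normalizer (zpowers y : Set T)) (hq3 : ∃ r, Prim (Nat.card F) 3 r) : H ≤ MT e := by
  rw [le_MT]
  obtain ⟨r, hr⟩ := hq3
  obtain ⟨n, hn, -⟩ := exists_tor hA hr
  obtain ⟨j, rfl⟩ := mem_zpowers_iff.1 hy
  have hB : emb e (x ^ j) = slM F (A ^ j) := by rw [map_zpow, hx, map_zpow]
  refine stb_of_cyc hn (N := (zpowers (x ^ j)).map (emb e)) (B := A ^ j) ?_ ?_ ?_ ?_ ?_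
  · rintro _ ⟨k, hk, rfl⟩ _ ⟨g, hg, rfl⟩
    refine ⟨k⁻¹ * g * k, ?_, by rw [map_mul, map_mul, map_inv]⟩
    have h1 := (mem_normalizer_iff.1 (inv_mem (hH hk)) g).1 hg
    rwa [inv_inv] at h1
  · intro h0
    apply hy1
    apply emb_inj e
    rw [hB, h0, map_one, map_one]
  · exact ((Commute.refl A).pow_left n).zpow_right j
  · rw [← hB]
    exact ⟨x ^ j, mem_zpowers _, rfl⟩
  · rintro _ ⟨g, hg, rfl⟩
    obtain ⟨k, rfl⟩ := mem_zpowers_iff.1 hg
    exact ⟨(A ^ j) ^ k, by rw [map_zpow (emb e), hB, ← map_zpow]⟩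

include hp hFp h3 in
theorem case_b {H : Subgroup T} (hxH : x ∈ H) {S : Subgroup H} (hSn : S.Normal) (hSs : IsSimpleGroup S)
    (hna : ¬ IsMulCommutative S) {r : ℕ} (hr : Prim (Nat.card F) 3 r) (hi : ¬ r ∣ S.index)
    (hre : Real (.psl 3 (Nat.card F)) S) : H ≤ MT e := by
  rw [le_MT]
  obtain ⟨n, hn, hno⟩ := exists_tor hA hr
  have hfF : Fintype F := Fintype.ofFinite F
  obtain ⟨E, i1, i2, hE, ⟨f⟩⟩ := hre
  haveI : CharP E p := by
    obtain ⟨k, -, hk⟩ := FiniteField.card F p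
    rw [Nat.card_eq_fintype_card] at hE
    rw [hk] at hE
    exact charP_of_card_eq_prime_pow hE
  -- the homomorphism
  let φ₀ : Matrix.SpecialLinearGroup (Fin 3) E →* T :=
    (H.subtype.comp (S.subtype.comp f.symm.toMonoidHom)).comp
      (QuotientGroup.mk' (Subgroup.center (Matrix.SpecialLinearGroup (Fin 3) E)))
  have hφ₀ : ∀ g, φ₀ g = ((f.symm (QuotientGroup.mk g) : S) : H) := fun g => rfl
  let φ : Matrix.SpecialLinearGroup (Fin 3) E →* AutO F := e.toMonoidHom.comp φ₀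
  have hφ : ∀ g, ((φ g : AutO F) : V F ≃ₗ[F] V F) = emb e (φ₀ g) := fun g => rfl
  have hsurj : ∀ s : S, ∃ g, φ₀ g = ((s : H) : T) := by
    intro s
    obtain ⟨g, hg⟩ := QuotientGroup.mk_surjective (f s)
    refine ⟨g, ?_⟩
    rw [hφ₀]
    have h1 : f.symm (QuotientGroup.mk g) = s := by rw [f.symm_apply_eq]; exact hg
    rw [h1]
  have himg : ∀ g : V F ≃ₗ[F] V F, g ∈ SubQ.img φ ↔ ∃ s : S, emb e ((s : H) : T) = g := by
    intro g
    constructor
    · intro hg
      obtain ⟨y, rfl⟩ := SubQ.exists_of_mem_img φ hg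
      exact ⟨f.symm (QuotientGroup.mk y), rfl⟩
    · rintro ⟨s, rfl⟩
      obtain ⟨y, hy⟩ := hsurj s
      rw [← hy]
      exact SubQ.mem_img φ y
  -- the image is simple
  let ψ : S →* AutO F := e.toMonoidHom.comp (H.subtype.comp S.subtype)
  have hψi : Function.Injective ψ := by
    intro a b hab
    apply Subtype.ext
    apply Subtype.ext
    exact e.injective hab
  have hψr : ψ.range = φ.range := by
    ext g
    constructor
    · rintro ⟨s, rfl⟩
      obtain ⟨y, hy⟩ := hsurj s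
      refine ⟨y, ?_⟩
      change e (φ₀ y) = e ((s : H) : T)
      rw [hy]
    · rintro ⟨y, rfl⟩
      exact ⟨f.symm (QuotientGroup.mk y), rfl⟩
  have eS : S ≃* φ.range := (MonoidHom.ofInjective hψi).trans (MulEquiv.subgroupCongr hψr)
  haveI hsimp : IsSimpleGroup φ.range := eS.symm.isSimpleGroup
  have hker : φ.ker ≤ Subgroup.center (Matrix.SpecialLinearGroup (Fin 3) E) := by
    intro g hg
    have h1 : e (φ₀ g) = 1 := hg
    have h2 : φ₀ g = 1 := e.injective (by rw [h1, map_one])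
    rw [hφ₀] at h2
    have h4 : f.symm (QuotientGroup.mk g) = 1 := Subtype.ext (Subtype.ext h2)
    have h5 : (QuotientGroup.mk g : Matrix.ProjectiveSpecialLinearGroup (Fin 3) E) = 1 := by
      apply f.symm.injective
      rw [h4, map_one]
    exact (QuotientGroup.eq_one_iff g).1 h5
  -- the torus element
  have hxn : emb e (x ^ n) = slM F (A ^ n) := by rw [map_pow, hx, map_pow]
  have hoy : orderOf (x ^ n) = r := by
    rw [← orderOf_injective (emb e) (emb_inj e), hxn, orderOf_injective _ slM_inj, hno]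
  have hmS : (⟨x ^ n, H.pow_mem hxH n⟩ : H) ∈ S := by
    have ir : Fact r.Prime := ⟨hr.prime⟩
    by_contra hcon
    apply hi
    have h1 : orderOf (QuotientGroup.mk' S ⟨x ^ n, H.pow_mem hxH n⟩) = r := by
      apply orderOf_eq_prime
      · rw [← map_pow]
        have h2 : (⟨x ^ n, H.pow_mem hxH n⟩ : H) ^ r = 1 := by
          apply Subtype.ext
          change (x ^ n) ^ r = 1
          rw [← hoy]
          exact pow_orderOf_eq_one _
        rw [h2, map_one]
      · intro h2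
        apply hcon
        rwa [QuotientGroup.mk'_apply, QuotientGroup.eq_one_iff] at h2
    rw [← h1, Subgroup.index]
    exact orderOf_dvd_natCard _
  have hmem : slM F (A ^ n) ∈ SubQ.img φ := by
    rw [himg]
    exact ⟨⟨_, hmS⟩, hxn⟩
  have hs : ∃ g, ((φ g : AutO F) : V F ≃ₗ[F] V F) = slM F (A ^ n) := SubQ.exists_of_mem_img φ hmem
  have hstb := stb_of_hom p h3 hn φ hs hker
  -- the simple subgroup of the image
  haveI : IsSimpleGroup (SubQ.img φ) := by
    have e1 : φ.range ≃* SubQ.img φ := φ.range.equivMapOfInjective (AutO F).subtype (AutO F).subtype_injective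
    exact e1.symm.isSimpleGroup
  refine stb_of_simple (S := SubQ.img φ) (map_le e H) ?_ ?_ ?_ hn hmem ?_
  · intro g hg
    obtain ⟨s, rfl⟩ := (himg g).1 hg
    exact ⟨_, (s : H).2, rfl⟩
  · by_contra hcon
    push Not at hcon
    apply hna
    refine ⟨⟨fun a b => ?_⟩⟩
    have h1 := hcon _ ((himg _).2 ⟨a, rfl⟩) _ ((himg _).2 ⟨b, rfl⟩)
    rw [← map_mul, ← map_mul] at h1
    have h2 := emb_inj e h1
    exact Subtype.ext (Subtype.ext h2)
  · rintro _ ⟨k, hk, rfl⟩ g hg
    obtain ⟨s, rfl⟩ := (himg g).1 hg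
    rw [himg]
    have h1 : (⟨k, hk⟩ : H)⁻¹ * (s : H) * (⟨k, hk⟩ : H) ∈ S := by
      have h2 := hSn.conj_mem _ s.2 (⟨k, hk⟩ : H)⁻¹
      rwa [inv_inv] at h2
    refine ⟨⟨_, h1⟩, ?_⟩
    change emb e (k⁻¹ * ((s : H) : T) * k) = _
    rw [map_mul, map_mul, map_inv]
  · intro g hg y hy
    obtain ⟨z, rfl⟩ := SubQ.exists_of_mem_img φ hg
    exact hstb z y hy

end

/-- **`Spr` from the overgroups of the torus elements.** -/
theorem spr_of_over3 {T : Type*} [Group T] [Finite T] [IsSimpleGroup T] {F : Type*} [Field F] [Finite F] (e : T ≃* AutO F)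
    (hna : ∃ x y : T, x * y ≠ y * x) (h3 : (3 : F) ≠ 0)
    (hO : ∀ x : T, orderOf x = Nat.card F ^ 2 + Nat.card F + 1 → Over3 (Nat.card F) x) : Spr T := by
  have hfF : Fintype F := Fintype.ofFinite F
  obtain ⟨p, hFp⟩ := CharP.exists F
  have hp : Fact p.Prime := ⟨CharP.char_is_prime F p⟩
  have hq2 : 2 ≤ Nat.card F := by
    rw [Nat.card_eq_fintype_card]
    exact Fintype.one_lt_card
  obtain ⟨A, hA⟩ := Cfsg.Agent.H375.LThree.exists_sl_three (F := F)
  rw [← Nat.card_eq_fintype_card] at hA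
  obtain ⟨x, hx'⟩ := e.surjective ⟨slM F A, slM_mem A⟩
  have hx : emb e x = slM F A := congrArg Subtype.val hx'
  have hxo : orderOf x = Nat.card F ^ 2 + Nat.card F + 1 := by
    rw [← orderOf_injective (emb e) (emb_inj e), hx, orderOf_injective _ slM_inj, hA]
  refine spr_of_one hna (s := x) (MT_ne_top e) ?_
  intro H hxH hH
  rcases hO x hxo H hxH hH with ⟨y, hy, hy1, hy2⟩ | ⟨S, hSn, hSs, hSna, ⟨r, hr, hi⟩, hre⟩
  · exact case_a e hA hx hy hy1 hy2 (Cfsg.Agent.H436.exists_prim hq2 le_rfl (by norm_num))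
  · exact case_b (p := p) e h3 hA hx hxH hSn hSs hSna hr hi hre

/-- the isomorphism -/
theorem exists_equiv {F : Type} [Field F] [Finite F] : Nonempty (AutO F ≃* ↥(chevG2.group F)) := by
  obtain ⟨f⟩ := Cfsg.Agent.H638.G2Iso.equiv (F := F)
  have h1 : (Cfsg.Lie.G2 F).map (toE F).toMonoidHom = AutO F := by
    ext g
    constructor
    · rintro ⟨y, hy, rfl⟩
      exact toE_mem.2 hy
    · intro hg
      obtain ⟨y, rfl⟩ := (toE F).surjective g
      exact ⟨y, toE_mem.1 hg, rfl⟩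
  have e1 : Cfsg.Lie.G2 F ≃* (Cfsg.Lie.G2 F).map (toE F).toMonoidHom := (toE F).subgroupMap _
  exact ⟨((e1.trans (MulEquiv.subgroupCongr h1)).symm).trans f⟩

/-- **the row `G₂(q)`, `3 ∤ q`** -/
theorem row_of_over3 {q : ℕ} (h3 : ¬ 3 ∣ q)
    (hO : ∀ {T : Type} [Group T] [Finite T], IsSimpleGroup T → Cfsg.Agent.H436.IsNamed (.g2 q) T →
      ∀ x : T, orderOf x = q ^ 2 + q + 1 → Over3 q x) : Cfsg.Agent.H862.Spr.Row (.g2 q) := by
  intro T _ _ hs hT
  obtain ⟨hre, -⟩ := id hT
  obtain ⟨F, i1, i2, hF, ⟨f⟩⟩ := hre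
  obtain ⟨g⟩ := exists_equiv (F := F)
  have hFq : Nat.card F = q := by rw [Nat.card_eq_fintype_card, hF]
  have h3F : (3 : F) ≠ 0 := by
    intro h0
    obtain ⟨p, hFp⟩ := CharP.exists F
    have hp : p.Prime := CharP.char_is_prime F p
    have h4 : ((3 : ℕ) : F) = 0 := by exact_mod_cast h0
    rw [CharP.cast_eq_zero_iff F p] at h4
    have h5 := (Nat.prime_dvd_prime_iff_eq hp Nat.prime_three).1 h4
    subst h5
    obtain ⟨n, -, hn⟩ := FiniteField.card F 3
    apply h3
    rw [← hF, hn]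
    exact dvd_pow_self 3 n.ne_zero
  have e : T ≃* AutO F := f.trans g.symm
  refine spr_of_over3 e ?_ h3F ?_
  · by_contra hcon
    push Not at hcon
    have h4 : ∀ x y : AutO F, x * y = y * x := by
      intro x y
      apply e.symm.injective
      rw [map_mul, map_mul]
      exact hcon _ _
    have h5 : slM F (ta F) * slM F (tb F) = slM F (tb F) * slM F (ta F) :=
      congrArg Subtype.val (h4 ⟨slM F (ta F), slM_mem _⟩ ⟨slM F (tb F), slM_mem _⟩)
    rw [← map_mul, ← map_mul] at h5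
    have h6 := slM_inj h5
    rw [ta_mul_tb] at h6
    exact tz_ne (mul_left_cancel (a := tb F * ta F) (by rw [mul_one]; exact h6))
  · rw [hFq]
    exact hO hs hT

end Cfsg.Agent.H244.G2S

private theorem dce_ec8f5fbca4ef : _root_.True := by
  try have : _root_.True := by simp only [_root_.Cfsg.Agent.H244.G2S.MT.eq_1]
  exact _root_.True.intro
end
end
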